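import Cfsg.Agent.Lib.H5.Centric
import Cfsg.Agent.Lib.H5.ZStar
import Cfsg.Agent.Lib.H58.AbSyl
import Cfsg.Agent.Lib.H72.TpCount
import Cfsg.Agent.Lib.H2.PGrp

/-!
Simple groups all of whose proper subgroups are CA-groups (S4369), reduction to S3214.
-/

set_option autoImplicit false

namespace H18.CA1

open Subgroup Cfsg

/-- CA-groups: centralizers of noncentral elements are abelian -/
def IsCA (H : Type*) [Group H] : Prop :=
  ∀ x : H, x ∉ Subgroup.center H → IsMulCommutative (Subgroup.centralizer ({x} : Set H))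

section basic

variable {G : Type*} [Group G]

theorem ca_comm {M : Subgroup G} (hM : IsCA M) {x : G} (hx : x ∈ M)
    (hnc : ¬ ∀ m ∈ M, m * x = x * m) {a b : G} (ha : a ∈ M) (hb : b ∈ M)
    (hax : a * x = x * a) (hbx : b * x = x * b) : a * b = b * a := by
  have h1 : (⟨x, hx⟩ : M) ∉ Subgroup.center M := by
    intro h
    refine hnc fun m hm => ?_
    exact congrArg Subtype.val ((Subgroup.mem_center_iff.1 h) ⟨m, hm⟩)
  have h2 := hM ⟨x, hx⟩ h1
  have hA : (⟨a, ha⟩ : M) ∈ Subgroup.centralizer ({(⟨x, hx⟩ : M)} : Set M) := by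
    rw [Subgroup.mem_centralizer_iff]
    rintro y hy
    obtain rfl := Set.mem_singleton_iff.1 hy
    exact Subtype.ext hax.symm
  have hB : (⟨b, hb⟩ : M) ∈ Subgroup.centralizer ({(⟨x, hx⟩ : M)} : Set M) := by
    rw [Subgroup.mem_centralizer_iff]
    rintro y hy
    obtain rfl := Set.mem_singleton_iff.1 hy
    exact Subtype.ext hbx.symm
  have h3 := h2.is_comm.comm ⟨_, hA⟩ ⟨_, hB⟩
  exact congrArg Subtype.val (congrArg Subtype.val h3)

end basic

section simple

variable {G : Type*} [Group G] [Finite G] [hs : IsSimpleGroup G]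

include hs in
theorem normalizer_ne_top {U : Subgroup G} (hU : U ≠ ⊥) (hU2 : U ≠ ⊤) :
    normalizer (U : Set G) ≠ ⊤ := by
  intro h
  have hn : U.Normal := Subgroup.normalizer_eq_top_iff.1 h
  rcases hn.eq_bot_or_eq_top with h1 | h1
  · exact hU h1
  · exact hU2 h1

include hs in
theorem commutator_top (hab : ¬ IsMulCommutative G) : _root_.commutator G = ⊤ := by
  rcases (inferInstance : (_root_.commutator G).Normal).eq_bot_or_eq_top with h | h
  · exfalso
    apply hab
    refine ⟨⟨fun a b => ?_⟩⟩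
    have h1 := Subgroup.commutator_mem_commutator (Subgroup.mem_top a) (Subgroup.mem_top b)
    rw [← _root_.commutator_def, h, Subgroup.mem_bot] at h1
    exact commutatorElement_eq_one_iff_mul_comm.1 h1
  · exact h

/-- a Sylow 2-subgroup is abelian -/
theorem sylow_abelian (hnab : ¬ IsMulCommutative G) (hnp : ¬ IsPGroup 2 G)
    (hprop : ∀ H : Subgroup G, H ≠ ⊤ → IsCA H) (S : Sylow 2 G) : IsMulCommutative (S : Subgroup G) := by
  have h2 : Fact (Nat.Prime 2) := ⟨Nat.prime_two⟩
  by_contra hS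
  have hSne : (S : Subgroup G) ≠ ⊥ := by
    intro h
    apply hS
    rw [h]
    refine ⟨⟨fun a b => Subtype.ext ?_⟩⟩
    have ha := Subgroup.mem_bot.1 a.2
    have hb := Subgroup.mem_bot.1 b.2
    simp [ha, hb]
  have hSp : IsPGroup 2 (S : Subgroup G) := S.isPGroup'
  have hnt : Nontrivial (S : Subgroup G) := (Subgroup.nontrivial_iff_ne_bot _).2 hSne
  have hctr : Nontrivial (Subgroup.center (S : Subgroup G)) := hSp.center_nontrivial
  have hcp : IsPGroup 2 (Subgroup.center (S : Subgroup G)) := hSp.to_subgroup _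
  obtain ⟨t, ht⟩ : ∃ t : Subgroup.center (S : Subgroup G), orderOf t = 2 := by
    apply exists_prime_orderOf_dvd_card' 2
    obtain ⟨n, hn, hc⟩ := hcp.nontrivial_iff_card.1 hctr
    rw [hc]
    exact dvd_pow_self 2 (by omega)
  set u : G := ((t : (S : Subgroup G)) : G) with hu
  have hou : orderOf u = 2 := by
    rw [hu, Subgroup.orderOf_coe, Subgroup.orderOf_coe, ht]
  have huS : u ∈ (S : Subgroup G) := (t : (S : Subgroup G)).2
  have huc : ∀ s ∈ (S : Subgroup G), s * u = u * s := by
    intro s hs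
    exact congrArg Subtype.val ((Subgroup.mem_center_iff.1 t.2) ⟨s, hs⟩)
  have hu1 : u ≠ 1 := by
    intro h; rw [h, orderOf_one] at hou; omega
  have hiso := H5.Centric.isolated_of_centric S huS huc (by
    intro U hUS huU _ hcen
    by_contra hnc
    have hUbot : U ≠ ⊥ := by
      rintro rfl
      exact hu1 (Subgroup.mem_bot.1 huU)
    have hUtop : U ≠ ⊤ := by
      intro h
      apply hnp
      have h3 : (S : Subgroup G) = ⊤ := top_le_iff.1 (h ▸ hUS)
      have h4 : IsPGroup 2 (⊤ : Subgroup G) := h3 ▸ hSp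
      exact h4.of_equiv Subgroup.topEquiv
    have hca := hprop _ (normalizer_ne_top hUbot hUtop)
    have huN : u ∈ normalizer (U : Set G) := Subgroup.le_normalizer huU
    have hab : ∀ a ∈ (S : Subgroup G), a ∈ normalizer (U : Set G) → ∀ b ∈ (S : Subgroup G),
        b ∈ normalizer (U : Set G) → a * b = b * a := fun a ha haN b hb hbN =>
      ca_comm hca huN hnc haN hbN (huc a ha) (huc b hb)
    have hUeq : U = (S : Subgroup G) := by
      by_contra hne
      obtain ⟨x, hxS, hxU, hxN⟩ := H2.PGrp.exists_mem_normalizer hSp (lt_of_le_of_ne hUS hne)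
      apply hxU
      apply hcen
      refine ⟨hxS, Subgroup.mem_centralizer_iff.2 fun y hy => ?_⟩
      exact hab y (hUS hy) (Subgroup.le_normalizer hy) x hxS hxN
    apply hS
    refine ⟨⟨fun a b => Subtype.ext ?_⟩⟩
    exact hab a a.2 (Subgroup.le_normalizer (hUeq ▸ a.2)) b b.2 (Subgroup.le_normalizer (hUeq ▸ b.2)))
  have hz := H5.ZStar.sylow_form S u hou (fun g hg => hiso g hg)
  -- `O(G) = 1`
  have hcore : pPrimeCore 2 G = ⊥ := by
    rcases (inferInstance : (pPrimeCore 2 G).Normal).eq_bot_or_eq_top with h | h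
    · exact h
    · exfalso
      have h3 := H1.Cores.coprime_card_pPrimeCore (G := G) 2
      rw [h, Subgroup.card_top] at h3
      have h4 : 2 ∣ Nat.card G := hou ▸ orderOf_dvd_natCard u
      have h5 := Nat.dvd_gcd h4 (dvd_refl 2)
      rw [Nat.Coprime] at h3
      rw [h3] at h5
      omega
  rw [hcore] at hz
  have hcen : u ∈ Subgroup.center G := by
    rw [Subgroup.mem_center_iff]
    intro g
    have h3 := Subgroup.mem_bot.1 (hz g)
    have h4 : u * g = g * u := by
      calc u * g = (u * g * u⁻¹ * g⁻¹) * (g * u) := by group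
        _ = g * u := by rw [h3, one_mul]
    exact h4.symm
  rcases (inferInstance : (Subgroup.center G).Normal).eq_bot_or_eq_top with h | h
  · rw [h] at hcen
    exact hu1 (Subgroup.mem_bot.1 hcen)
  · apply hnab
    refine ⟨⟨fun a b => ?_⟩⟩
    exact (Subgroup.mem_center_iff.1 (h ▸ Subgroup.mem_top b : b ∈ Subgroup.center G)) a

/-- centralizers of involutions are 2-nilpotent -/
theorem npc_centralizer (hnab : ¬ IsMulCommutative G) (hnp : ¬ IsPGroup 2 G)
    (hprop : ∀ H : Subgroup G, H ≠ ⊤ → IsCA H) (t : G) (ht : orderOf t = 2) :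
    Cfsg.HasNormalPComplement 2 ↥(Subgroup.centralizer ({t} : Set G)) := by
  have h2 : Fact (Nat.Prime 2) := ⟨Nat.prime_two⟩
  obtain ⟨S, hS⟩ : ∃ S : Sylow 2 G, zpowers t ≤ (S : Subgroup G) :=
    IsPGroup.exists_le_sylow (IsPGroup.of_card (n := 1) (by rw [Nat.card_zpowers, ht, pow_one]))
  have htS : t ∈ (S : Subgroup G) := hS (mem_zpowers t)
  have hab := sylow_abelian hnab hnp hprop S
  have hcomm : ∀ a ∈ (S : Subgroup G), ∀ b ∈ (S : Subgroup G), a * b = b * a := fun a ha b hb =>
    congrArg Subtype.val (hab.is_comm.comm ⟨a, ha⟩ ⟨b, hb⟩)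
  have ht1 : t ≠ 1 := by
    rintro rfl; rw [orderOf_one] at ht; omega
  have hSbot : (S : Subgroup G) ≠ ⊥ := by
    intro h; rw [h] at htS; exact ht1 (Subgroup.mem_bot.1 htS)
  have hStop : (S : Subgroup G) ≠ ⊤ := by
    intro h
    apply hnp
    have h4 : IsPGroup 2 (⊤ : Subgroup G) := h ▸ S.isPGroup'
    exact h4.of_equiv Subgroup.topEquiv
  have hca := hprop _ (normalizer_ne_top hSbot hStop)
  have htN : t ∈ normalizer ((S : Subgroup G) : Set G) := Subgroup.le_normalizer htS
  have hnc : ¬ ∀ m ∈ normalizer ((S : Subgroup G) : Set G), m * t = t * m := by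
    intro h
    exact ht1 (H58.AbSyl.eq_one_of_fixed (commutator_top hnab) S hab htS h)
  set C := Subgroup.centralizer ({t} : Set G) with hC
  have hSC : (S : Subgroup G) ≤ C := by
    intro s hs
    rw [hC, Subgroup.mem_centralizer_singleton_iff]
    exact hcomm _ hs _ htS
  have hP := S.subtype hSC
  refine H72.TpCount.hasNormalPComplement_of_normalizer_le (S.subtype hSC) ?_
  intro n hn
  rw [Subgroup.mem_centralizer_iff]
  intro s hs
  have hs' : (s : G) ∈ (S : Subgroup G) := hs
  have hnN : (n : G) ∈ normalizer ((S : Subgroup G) : Set G) := by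
    rw [Subgroup.mem_normalizer_iff] at hn ⊢
    intro x
    constructor
    · intro hx
      exact (hn ⟨x, hSC hx⟩).1 hx
    · intro hx
      have hxC : x ∈ C := by
        have h3 : x = (n : G)⁻¹ * ((n : G) * x * (n : G)⁻¹) * n := by group
        rw [h3]
        exact C.mul_mem (C.mul_mem (C.inv_mem n.2) (hSC hx)) n.2
      exact (hn ⟨x, hxC⟩).2 hx
  apply Subtype.ext
  have hnt : (n : G) * t = t * n := Subgroup.mem_centralizer_singleton_iff.1 n.2
  exact ca_comm hca htN hnc (Subgroup.le_normalizer hs') hnN (hcomm _ hs' _ htS) hnt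

end simple

end H18.CA1
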