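import Cfsg.Agent.Lib.H18.CA1
import Cfsg.Agent.Lib.H31.HNb

/-!
Simple groups all of whose proper subgroups are CA-groups (S4369): they are `PSL(2,q)`.
-/

set_option autoImplicit false

namespace H18.CA2

open Subgroup Cfsg H18.CA1

universe u

/-- statement of S3188 -/
def S3188Thm : Prop := ∀ (G : Type u) [Group G] [Finite G]
    (S : Sylow 2 G) (_ : IsMulCommutative ↥(S : Subgroup G))
    (_ : ∀ t : G, orderOf t = 2 → Group.IsSolvable ↥(Subgroup.centralizer ({t} : Set G))),
    Group.IsSolvable G ∨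
      ∃ (F : Type) (_ : Field F) (_ : Fintype F),
        (((Fintype.card F % 8 = 3 ∨ Fintype.card F % 8 = 5) ∧ 5 ≤ Fintype.card F) ∨
          (∃ n : ℕ, 2 ≤ n ∧ Fintype.card F = 2 ^ n)) ∧
        ∃ N : Subgroup (G ⧸ Cfsg.oddCore G), N.Normal ∧
          Nonempty (↥N ≃* Matrix.ProjectiveSpecialLinearGroup (Fin 2) F) ∧
          Subgroup.centralizer (N : Set (G ⧸ Cfsg.oddCore G)) = ⊥

/-- A nonsolvable finite simple group all of whose proper subgroups are CA-groups is `PSL(2,q)`,
`q ≡ ± 3 mod 8` or `q` even. -/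
theorem simple_case (ft : H31.HN.OddThm.{u}) (h3188 : S3188Thm.{u}) (G : Type u) [Group G] [Finite G]
    [IsSimpleGroup G] (hns : ¬ Group.IsSolvable G)
    (hprop : ∀ H : Subgroup G, H ≠ ⊤ → IsCA H) :
    ∃ (F : Type) (_ : Field F) (_ : Fintype F),
        (((Fintype.card F % 8 = 3 ∨ Fintype.card F % 8 = 5) ∧ 5 ≤ Fintype.card F) ∨
          (∃ n : ℕ, 2 ≤ n ∧ Fintype.card F = 2 ^ n)) ∧
        Nonempty (G ≃* Matrix.ProjectiveSpecialLinearGroup (Fin 2) F) := by
  have h2 : Fact (Nat.Prime 2) := ⟨Nat.prime_two⟩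
  have hnab : ¬ IsMulCommutative G := by
    intro h
    apply hns
    exact Group.isSolvable_of_comm (fun a b => h.is_comm.comm a b)
  have hnp : ¬ IsPGroup 2 G := by
    intro h
    apply hns
    have := h.isNilpotent
    exact IsNilpotent.to_isSolvable
  have hC : ∀ t : G, orderOf t = 2 → Group.IsSolvable ↥(Subgroup.centralizer ({t} : Set G)) :=
    fun t ht => H31.HN.solvable_of_npc ft (npc_centralizer hnab hnp hprop t ht)
  obtain ⟨S⟩ : Nonempty (Sylow 2 G) := inferInstance
  rcases h3188 G S (sylow_abelian hnab hnp hprop S) hC with h | ⟨F, iF, iFf, hF, N, hN, ⟨e⟩, hcen⟩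
  · exact (hns h).elim
  refine ⟨F, iF, iFf, hF, ?_⟩
  have hcore : oddCore G = ⊥ := by
    rcases (inferInstance : (oddCore G).Normal).eq_bot_or_eq_top with h | h
    · exact h
    · exfalso
      apply hns
      apply ft
      have h3 := H1.Cores.coprime_card_pPrimeCore (G := G) 2
      have h4 : Nat.card (oddCore G) = Nat.card G := by rw [h, Subgroup.card_top]
      rw [← h4]
      exact (Nat.coprime_two_right).mp h3
  have e1 : G ≃* G ⧸ oddCore G :=
    (QuotientGroup.quotientBot (G := G)).symm.trans (QuotientGroup.quotientMulEquivOfEq hcore.symm)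
  have hN' : (N.comap e1.toMonoidHom) = ⊤ := by
    rcases (hN.comap e1.toMonoidHom).eq_bot_or_eq_top with h | h
    · exfalso
      have h5 : N = ⊥ := by
        rw [eq_bot_iff]
        intro x hx
        have h6 : e1.symm x ∈ N.comap e1.toMonoidHom := by
          rw [Subgroup.mem_comap]
          show e1 (e1.symm x) ∈ N
          rw [MulEquiv.apply_symm_apply]; exact hx
        rw [h, Subgroup.mem_bot] at h6
        rw [Subgroup.mem_bot, ← e1.apply_symm_apply x, h6, map_one]
      rw [h5] at hcen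
      have h7 : ∀ g : G, g = 1 := by
        intro g
        have h8 : e1 g ∈ Subgroup.centralizer ((⊥ : Subgroup (G ⧸ oddCore G)) : Set (G ⧸ oddCore G)) := by
          rw [Subgroup.mem_centralizer_iff]
          intro y hy
          have : y = 1 := Subgroup.mem_bot.1 hy
          rw [this, one_mul, mul_one]
        rw [hcen, Subgroup.mem_bot] at h8
        exact (map_eq_one_iff e1 e1.injective).1 h8
      apply hnab
      exact ⟨⟨fun a b => by rw [h7 a, h7 b]⟩⟩
    · exact h
  have hNtop : N = ⊤ := by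
    rw [eq_top_iff]
    intro x _
    have h6 : e1.symm x ∈ N.comap e1.toMonoidHom := by rw [hN']; exact Subgroup.mem_top _
    rw [Subgroup.mem_comap] at h6
    have h7 : e1 (e1.symm x) ∈ N := h6
    rwa [MulEquiv.apply_symm_apply] at h7
  subst hNtop
  exact ⟨e1.trans (Subgroup.topEquiv.symm.trans e)⟩

end H18.CA2
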