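import Cfsg.Agent.Lib.H18.CA1

/-!
CA-subgroups of `PSL(2,q)` (S4369): subfield subgroups, the even case.
-/

set_option autoImplicit false

namespace H18.CA3

open Subgroup Cfsg H18.CA1

abbrev SL2 (F : Type*) [CommRing F] := Matrix.SpecialLinearGroup (Fin 2) F
abbrev PSL2 (F : Type*) [CommRing F] := Matrix.ProjectiveSpecialLinearGroup (Fin 2) F

section equiv

theorem ca_of_equiv {G H : Type*} [Group G] [Group H] (e : G ≃* H) (h : IsCA G) : IsCA H := by
  intro x hx
  have h1 : e.symm x ∉ Subgroup.center G := by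
    intro h2
    apply hx
    rw [Subgroup.mem_center_iff] at h2 ⊢
    intro g
    have h3 := h2 (e.symm g)
    rw [← map_mul, ← map_mul] at h3
    exact e.symm.injective h3
  have h4 := h _ h1
  refine ⟨⟨fun a b => Subtype.ext ?_⟩⟩
  have key : ∀ c : Subgroup.centralizer ({x} : Set H), e.symm c ∈ Subgroup.centralizer ({e.symm x} : Set G) := by
    intro c
    rw [Subgroup.mem_centralizer_singleton_iff, ← map_mul, ← map_mul,
      Subgroup.mem_centralizer_singleton_iff.1 c.2]
  have h5 := congrArg Subtype.val (h4.is_comm.comm ⟨_, key a⟩ ⟨_, key b⟩)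
  have h6 : e.symm (a * b : H) = e.symm (b * a : H) := by
    rw [map_mul, map_mul]; exact h5
  exact e.symm.injective h6

end equiv

section mat

variable {F : Type*} [Field F]

theorem mk_eq_iff (A B : SL2 F) :
    QuotientGroup.mk' (Subgroup.center (SL2 F)) A = QuotientGroup.mk' (Subgroup.center (SL2 F)) B ↔
      A = B ∨ A = -B := by
  rw [QuotientGroup.mk'_apply, QuotientGroup.mk'_apply, QuotientGroup.eq,
    Matrix.SpecialLinearGroup.mem_center_iff]
  constructor
  · rintro ⟨r, hr, hs⟩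
    have h1 : (B : Matrix (Fin 2) (Fin 2) F) = r • (A : Matrix (Fin 2) (Fin 2) F) := by
      have h2 : B = A * (A⁻¹ * B) := by group
      have h3 := congrArg (fun z : SL2 F => (z : Matrix (Fin 2) (Fin 2) F)) h2
      simp only [Matrix.SpecialLinearGroup.coe_mul] at h3
      rw [Matrix.SpecialLinearGroup.coe_mul] at hs
      rw [h3, ← hs, Matrix.scalar_apply, ← Matrix.smul_one_eq_diagonal, Matrix.mul_smul, Matrix.mul_one]
    rw [Fintype.card_fin, pow_two] at hr
    rcases mul_self_eq_one_iff.1 hr with h | h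
    · left
      apply Subtype.ext
      rw [h1, h, one_smul]
    · right
      apply Subtype.ext
      rw [Matrix.SpecialLinearGroup.coe_neg, h1, h, neg_smul, one_smul, neg_neg]
  · rintro (rfl | rfl)
    · refine ⟨1, by simp, ?_⟩
      simp
    · refine ⟨-1, by simp, ?_⟩
      rw [map_neg, map_one]
      have : (-B)⁻¹ * B = (-1 : SL2 F) := by
        rw [inv_mul_eq_iff_eq_mul]; simp
      rw [this]
      simp

/-- commuting matrices: the centralizer of a nonscalar 2×2 matrix is commutative -/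
theorem comm_of_nonscalar {A B X : Matrix (Fin 2) (Fin 2) F}
    (hX : ¬ (X 0 1 = 0 ∧ X 1 0 = 0 ∧ X 0 0 = X 1 1)) (hA : A * X = X * A) (hB : B * X = X * B) :
    A * B = B * A := by
  have e : ∀ (M N : Matrix (Fin 2) (Fin 2) F), M * N = N * M ↔
      (M 0 1 * N 1 0 = N 0 1 * M 1 0 ∧ M 0 0 * N 0 1 + M 0 1 * N 1 1 = N 0 0 * M 0 1 + N 0 1 * M 1 1 ∧
        M 1 0 * N 0 0 + M 1 1 * N 1 0 = N 1 0 * M 0 0 + N 1 1 * M 1 0) := by
    intro M N
    constructor
    · intro h
      have h00 := congrFun (congrFun h 0) 0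
      have h01 := congrFun (congrFun h 0) 1
      have h10 := congrFun (congrFun h 1) 0
      simp only [Matrix.mul_apply, Fin.sum_univ_two] at h00 h01 h10
      refine ⟨by linear_combination h00, h01, h10⟩
    · rintro ⟨h1, h2, h3⟩
      ext i j
      fin_cases i <;> fin_cases j <;> simp only [Matrix.mul_apply, Fin.sum_univ_two, Fin.zero_eta, Fin.mk_one, Fin.isValue]
      · linear_combination h1
      · exact h2
      · exact h3
      · linear_combination -h1
  rw [e] at hA hB ⊢
  obtain ⟨a1, a2, a3⟩ := hA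
  obtain ⟨b1, b2, b3⟩ := hB
  by_cases h1 : X 0 1 = 0
  · by_cases h2 : X 1 0 = 0
    · have h3 : X 0 0 - X 1 1 ≠ 0 := fun h => hX ⟨h1, h2, sub_eq_zero.1 h⟩
      rw [h1] at a2 b2
      rw [h2] at a3 b3
      have ha2 : A 0 1 = 0 := by
        have : (X 0 0 - X 1 1) * A 0 1 = 0 := by linear_combination -a2
        exact (mul_eq_zero.1 this).resolve_left h3
      have ha3 : A 1 0 = 0 := by
        have : (X 0 0 - X 1 1) * A 1 0 = 0 := by linear_combination a3
        exact (mul_eq_zero.1 this).resolve_left h3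
      have hb2 : B 0 1 = 0 := by
        have : (X 0 0 - X 1 1) * B 0 1 = 0 := by linear_combination -b2
        exact (mul_eq_zero.1 this).resolve_left h3
      have hb3 : B 1 0 = 0 := by
        have : (X 0 0 - X 1 1) * B 1 0 = 0 := by linear_combination b3
        exact (mul_eq_zero.1 this).resolve_left h3
      rw [ha2, ha3, hb2, hb3]
      simp
    · have g1 : A 0 1 * B 1 0 = B 0 1 * A 1 0 := by
        apply mul_left_cancel₀ h2
        linear_combination B 1 0 * a1 - A 1 0 * b1
      refine ⟨g1, ?_, ?_⟩ <;> apply mul_left_cancel₀ h2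
      · linear_combination (-B 0 1) * a3 + A 0 1 * b3 - (X 0 0 - X 1 1) * g1
      · linear_combination (-A 1 0) * b3 + B 1 0 * a3
  · have g1 : A 0 1 * B 1 0 = B 0 1 * A 1 0 := by
      apply mul_left_cancel₀ h1
      linear_combination (-A 0 1) * b1 + B 0 1 * a1
    refine ⟨g1, ?_, ?_⟩ <;> apply mul_left_cancel₀ h1
    · linear_combination B 0 1 * a2 - A 0 1 * b2
    · linear_combination A 1 0 * b2 - B 1 0 * a2 - (X 0 0 - X 1 1) * g1

theorem mk_central_of_scalar {X : SL2 F} (h : X.1 0 1 = 0 ∧ X.1 1 0 = 0 ∧ X.1 0 0 = X.1 1 1) :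
    QuotientGroup.mk' (Subgroup.center (SL2 F)) X = 1 := by
  rw [QuotientGroup.mk'_apply, QuotientGroup.eq_one_iff, Matrix.SpecialLinearGroup.mem_center_iff]
  refine ⟨X.1 0 0, ?_, ?_⟩
  · have h1 := X.2
    rw [Matrix.det_fin_two, h.1, ← h.2.2] at h1
    rw [Fintype.card_fin, pow_two]
    linear_combination h1
  · ext i j
    fin_cases i <;> fin_cases j <;> simp [h.1, h.2.1, h.2.2]

/-- `PSL(2,F)` is a CA-group in characteristic two -/
theorem ca_even (h2 : (2 : F) = 0) : IsCA (PSL2 F) := by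
  intro x hx
  obtain ⟨X, rfl⟩ := QuotientGroup.mk'_surjective _ x
  have hX : ¬ (X.1 0 1 = 0 ∧ X.1 1 0 = 0 ∧ X.1 0 0 = X.1 1 1) := by
    intro h
    apply hx
    rw [mk_central_of_scalar h]
    exact Subgroup.one_mem _
  have hneg : ∀ A : SL2 F, -A = A := by
    intro A
    apply Subtype.ext
    rw [Matrix.SpecialLinearGroup.coe_neg]
    ext i j
    rw [Matrix.neg_apply]
    linear_combination (-(A.1 i j)) * h2
  have key : ∀ A : SL2 F, QuotientGroup.mk' (Subgroup.center (SL2 F)) A ∈
      Subgroup.centralizer ({QuotientGroup.mk' (Subgroup.center (SL2 F)) X} : Set (PSL2 F)) →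
      A.1 * X.1 = X.1 * A.1 := by
    intro A hA
    rw [Subgroup.mem_centralizer_singleton_iff, ← map_mul, ← map_mul] at hA
    rcases (mk_eq_iff _ _).1 hA with h | h
    · exact congrArg Subtype.val h
    · rw [hneg] at h
      exact congrArg Subtype.val h
  refine ⟨⟨?_⟩⟩
  rintro ⟨a, ha⟩ ⟨b, hb⟩
  apply Subtype.ext
  obtain ⟨A, rfl⟩ := QuotientGroup.mk'_surjective _ a
  obtain ⟨B, rfl⟩ := QuotientGroup.mk'_surjective _ b
  show QuotientGroup.mk' _ A * QuotientGroup.mk' _ B = QuotientGroup.mk' _ B * QuotientGroup.mk' _ A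
  rw [← map_mul, ← map_mul]
  congr 1
  apply Subtype.ext
  exact comm_of_nonscalar hX (key A ha) (key B hb)

end mat

section sub

variable {K F : Type*} [Field K] [Field F]

/-- `SL(2,K) → PSL(2,F)` -/
def psi (f : K →+* F) : SL2 K →* PSL2 F :=
  (QuotientGroup.mk' (Subgroup.center (SL2 F))).comp (Matrix.SpecialLinearGroup.map f)

theorem psi_eq_iff (f : K →+* F) (A B : SL2 K) : psi f A = psi f B ↔ A = B ∨ A = -B := by
  have h0 : ∀ C D : SL2 K, (Matrix.SpecialLinearGroup.map f C : SL2 F) = Matrix.SpecialLinearGroup.map f D → C = D := by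
    intro C D h
    apply Subtype.ext
    ext i j
    have h1 := congrFun (congrFun (congrArg Subtype.val h) i) j
    exact f.injective h1
  have hn : ∀ C : SL2 K, (Matrix.SpecialLinearGroup.map f (-C) : SL2 F) = -Matrix.SpecialLinearGroup.map f C := by
    intro C
    apply Subtype.ext
    ext i j
    exact map_neg f _
  unfold psi
  rw [MonoidHom.comp_apply, MonoidHom.comp_apply, mk_eq_iff]
  constructor
  · rintro (h | h)
    · exact Or.inl (h0 _ _ h)
    · right
      rw [← hn] at h
      exact h0 _ _ h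
  · rintro (rfl | rfl)
    · exact Or.inl rfl
    · right
      rw [hn]

theorem exists_pow_four [Finite K] (h5 : 5 < Nat.card K) : ∃ m : K, m ≠ 0 ∧ m ^ 4 ≠ 1 := by
  obtain ⟨g, hg⟩ := IsCyclic.exists_generator (α := Kˣ)
  have h1 : orderOf g = Nat.card Kˣ := orderOf_eq_card_of_forall_mem_zpowers hg
  have h2 : Nat.card Kˣ = Nat.card K - 1 := by
    have : Fintype K := Fintype.ofFinite K
    rw [Nat.card_units]
  refine ⟨g, g.ne_zero, ?_⟩
  intro h
  have h3 : g ^ 4 = 1 := by
    apply Units.ext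
    rw [Units.val_pow_eq_pow_val, h, Units.val_one]
  have h4 := Nat.le_of_dvd (by norm_num) (orderOf_dvd_of_pow_eq_one h3)
  omega

theorem exists_sq_add_sq_neg [Finite K] : ∃ a b : K, a ^ 2 + b ^ 2 = -1 := by
  have : Fintype K := Fintype.ofFinite K
  obtain ⟨p, hp⟩ := CharP.exists K
  obtain ⟨n, hpp, -⟩ := FiniteField.card K p
  haveI : NeZero p := ⟨hpp.ne_zero⟩
  haveI : Fact p.Prime := ⟨hpp⟩
  obtain ⟨a, b, hab⟩ := CharP.sq_add_sq K p (-1)
  exact ⟨a, b, by rw [hab]; push_cast; ring⟩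

/-- subfield subgroups `PSL(2,K)`, `|K| > 5` odd, are not CA -/
theorem not_ca [Finite K] (f : K →+* F) (h2 : (2 : K) ≠ 0) (h5 : 5 < Nat.card K) : ¬ IsCA ↥(psi f).range := by
  intro hca
  obtain ⟨m, hm0, hm4⟩ := exists_pow_four h5
  obtain ⟨a, b, hab⟩ := exists_sq_add_sq_neg (K := K)
  have hp1 : 1 + m ^ 2 ≠ 0 := by
    intro h
    apply hm4
    have : m ^ 2 = -1 := by linear_combination h
    calc m ^ 4 = (m ^ 2) ^ 2 := by ring
      _ = 1 := by rw [this]; ring
  have hm1 : 1 - m ^ 2 ≠ 0 := by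
    intro h
    apply hm4
    have : m ^ 2 = 1 := by linear_combination -h
    calc m ^ 4 = (m ^ 2) ^ 2 := by ring
      _ = 1 := by rw [this]; ring
  obtain ⟨s, t, hs, ht, hst⟩ : ∃ s t : K, s ≠ 0 ∧ t ≠ 0 ∧ s ^ 2 + t ^ 2 = 1 := by
    refine ⟨(1 - m ^ 2) / (1 + m ^ 2), 2 * m / (1 + m ^ 2), div_ne_zero hm1 hp1,
      div_ne_zero (mul_ne_zero h2 hm0) hp1, ?_⟩
    field_simp
    ring
  set W : SL2 K := ⟨!![0, 1; -1, 0], by simp [Matrix.det_fin_two]⟩ with hW
  set U : SL2 K := ⟨!![1, 1; 0, 1], by simp [Matrix.det_fin_two]⟩ with hU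
  set Y : SL2 K := ⟨!![s, t; -t, s], by rw [Matrix.det_fin_two_of]; linear_combination hst⟩ with hY
  set C : SL2 K := ⟨!![a, b; b, -a], by rw [Matrix.det_fin_two_of]; linear_combination -hab⟩ with hC
  have hx : ∀ Z : SL2 K, psi f Z ∈ (psi f).range := fun Z => ⟨Z, rfl⟩
  have h1 := ca_comm hca (hx W) (by
    intro h
    have h3 := h _ (hx U)
    rw [← map_mul, ← map_mul, psi_eq_iff] at h3
    rcases h3 with h3 | h3
    · have h4 : (U.1 * W.1) 0 0 = (W.1 * U.1) 0 0 := congrFun (congrFun (congrArg Subtype.val h3) 0) 0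
      simp only [hW, hU, Matrix.mul_apply, Fin.sum_univ_two] at h4
      simp at h4
    · have h4 : (U.1 * W.1) 0 0 = -(W.1 * U.1) 0 0 := congrFun (congrFun (congrArg Subtype.val h3) 0) 0
      simp only [hW, hU, Matrix.mul_apply, Fin.sum_univ_two] at h4
      simp at h4) (hx Y) (hx C) (by
    rw [← map_mul, ← map_mul, psi_eq_iff]
    left
    apply Subtype.ext
    show Y.1 * W.1 = W.1 * Y.1
    ext i j
    fin_cases i <;> fin_cases j <;> simp [hW, hY, Matrix.mul_apply, Fin.sum_univ_two]) (by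
    rw [← map_mul, ← map_mul, psi_eq_iff]
    right
    apply Subtype.ext
    show C.1 * W.1 = -(W.1 * C.1)
    ext i j
    fin_cases i <;> fin_cases j <;> simp [hW, hC, Matrix.mul_apply, Fin.sum_univ_two])
  rw [← map_mul, ← map_mul, psi_eq_iff] at h1
  rcases h1 with h1 | h1
  · have h01 : (Y.1 * C.1) 0 1 = (C.1 * Y.1) 0 1 := congrFun (congrFun (congrArg Subtype.val h1) 0) 1
    have h00 : (Y.1 * C.1) 0 0 = (C.1 * Y.1) 0 0 := congrFun (congrFun (congrArg Subtype.val h1) 0) 0
    simp only [hC, hY, Matrix.mul_apply, Fin.sum_univ_two] at h01 h00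
    simp at h01 h00
    have hb : b = 0 := by
      have : t * b * 2 = 0 := by linear_combination h00
      simpa [ht, h2] using this
    have ha : a = 0 := by
      have : t * a * 2 = 0 := by linear_combination -h01
      simpa [ht, h2] using this
    rw [ha, hb] at hab
    have : (1 : K) = 0 := by linear_combination hab
    exact one_ne_zero this
  · have h01 : (Y.1 * C.1) 0 1 = -(C.1 * Y.1) 0 1 := congrFun (congrFun (congrArg Subtype.val h1) 0) 1
    have h00 : (Y.1 * C.1) 0 0 = -(C.1 * Y.1) 0 0 := congrFun (congrFun (congrArg Subtype.val h1) 0) 0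
    simp only [hC, hY, Matrix.mul_apply, Fin.sum_univ_two] at h01 h00
    simp at h01 h00
    have ha : a = 0 := by
      have : s * a * 2 = 0 := by linear_combination h00
      simpa [hs, h2] using this
    have hb : b = 0 := by
      have : s * b * 2 = 0 := by linear_combination h01
      simpa [hs, h2] using this
    rw [ha, hb] at hab
    have : (1 : K) = 0 := by linear_combination hab
    exact one_ne_zero this

theorem range_ne_top (f : K →+* F) (hf : ¬ Function.Surjective f) : (psi f).range ≠ ⊤ := by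
  intro h
  apply hf
  intro c
  set U : SL2 F := ⟨!![1, c; 0, 1], by simp [Matrix.det_fin_two]⟩ with hU
  obtain ⟨A, hA⟩ : QuotientGroup.mk' (Subgroup.center (SL2 F)) U ∈ (psi f).range := by
    rw [h]; exact Subgroup.mem_top _
  unfold psi at hA
  rw [MonoidHom.comp_apply, mk_eq_iff] at hA
  rcases hA with h1 | h1
  · have h01 := congrFun (congrFun (congrArg Subtype.val h1) 0) 1
    exact ⟨A.1 0 1, h01⟩
  · have h01 := congrFun (congrFun (congrArg Subtype.val h1) 0) 1
    refine ⟨-A.1 0 1, ?_⟩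
    rw [map_neg]
    have h02 : f (A.1 0 1) = -c := h01
    rw [h02, neg_neg]

end sub

end H18.CA3
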