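import Cfsg.Agent.Lib.H18.CA3
import Cfsg.Agent.Lib.H4.CA0
import Cfsg.Agent.Lib.H6.SmallIsoA

/-!
S4369, piece N: minimal non-CA groups `PSL(2,q)`, `q ≡ ±3 mod 8`.
-/

set_option autoImplicit false

namespace H18.CA4

open Subgroup Cfsg H18.CA1 H18.CA3

universe u

theorem isCA_of {G : Type u} [Group G] (h : H4.CA.MN G) (H : Subgroup G) (hH : H ≠ ⊤) : IsCA H := by
  intro x hx
  refine ⟨⟨?_⟩⟩
  rintro ⟨a, ha⟩ ⟨b, hb⟩
  rw [Subgroup.mem_centralizer_singleton_iff] at ha hb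
  by_contra hne
  apply hx
  rw [Subgroup.mem_center_iff]
  intro c
  have h1 := h.ca H hH x x.2 a a.2 b b.2 (congrArg Subtype.val ha.symm) (congrArg Subtype.val hb.symm) (by
    intro hab
    apply hne
    apply Subtype.ext
    exact Subtype.ext hab) c c.2
  exact Subtype.ext h1.symm

theorem not_isCA {G : Type u} [Group G] (h : H4.CA.MN G) : ¬ IsCA G := by
  intro hc
  obtain ⟨x, hx, a, b, xa, xb, ab⟩ := h.bad
  have h1 := hc x hx
  have ha : a ∈ Subgroup.centralizer ({x} : Set G) := Subgroup.mem_centralizer_singleton_iff.2 xa.symm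
  have hb : b ∈ Subgroup.centralizer ({x} : Set G) := Subgroup.mem_centralizer_singleton_iff.2 xb.symm
  exact ab (congrArg Subtype.val (h1.is_comm.comm ⟨a, ha⟩ ⟨b, hb⟩))

theorem ca_five {F : Type} [Field F] [Fintype F] (h : Fintype.card F = 5) : IsCA (PSL2 F) := by
  haveI : Fact (Nat.Prime 2) := ⟨Nat.prime_two⟩
  have hc : Nat.card (GaloisField 2 2) = 4 := by
    rw [GaloisField.card 2 2 (by norm_num)]; norm_num
  letI : Fintype (GaloisField 2 2) := Fintype.ofFinite _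
  have hc' : Fintype.card (GaloisField 2 2) = 4 := by rw [← Nat.card_eq_fintype_card, hc]
  obtain ⟨e⟩ := H6.SmallIsoA.psl2_five h
  obtain ⟨e'⟩ := H6.SmallIsoA.psl2_four hc'
  have h2 : (2 : GaloisField 2 2) = 0 := by
    have := CharP.cast_eq_zero (GaloisField 2 2) 2
    exact_mod_cast this
  exact ca_of_equiv (e'.trans e.symm) (ca_even h2)

/-- subfields of prime degree -/
theorem exists_sub {F : Type} [Field F] [Fintype F] {p : ℕ} [hp : Fact p.Prime] [CharP F p] {n : ℕ}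
    (hc : Fintype.card F = p ^ n) {r : ℕ} (hr : r.Prime) (hrn : r ∣ n) :
    ∃ K : Subfield F, Nat.card K ^ r = Fintype.card F := by
  letI : Algebra (ZMod p) F := ZMod.algebra F p
  haveI : Fact r.Prime := ⟨hr⟩
  have hfr : Module.finrank (ZMod p) F = n := by
    have h1 := Module.card_eq_pow_finrank (K := ZMod p) (V := F)
    rw [ZMod.card, hc] at h1
    exact (Nat.pow_right_injective hp.1.two_le h1).symm
  have hG : Nat.card (F ≃ₐ[ZMod p] F) = n := by
    rw [IsGalois.card_aut_eq_finrank, hfr]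
  obtain ⟨σ, hσ⟩ := exists_prime_orderOf_dvd_card' (G := F ≃ₐ[ZMod p] F) r (by rw [hG]; exact hrn)
  refine ⟨(IntermediateField.fixedField (zpowers σ)).toSubfield, ?_⟩
  have h1 := IntermediateField.finrank_fixedField_eq_card (F := ZMod p) (E := F) (zpowers σ)
  rw [Nat.card_zpowers, hσ] at h1
  have h2 := Module.natCard_eq_pow_finrank (K := IntermediateField.fixedField (zpowers σ)) (V := F)
  rw [h1] at h2
  rw [← Nat.card_eq_fintype_card, h2]
  rfl

theorem numeric {q : ℕ} (h8 : q % 8 = 3 ∨ q % 8 = 5) : ¬ 16 ∣ q ^ 2 - 1 := by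
  intro h
  obtain ⟨m, hm⟩ : ∃ m, q = 8 * m + q % 8 := ⟨q / 8, by omega⟩
  rcases h8 with h8 | h8 <;> rw [h8] at hm
  · have h1 : q ^ 2 - 1 = 16 * (4 * m ^ 2 + 3 * m) + 8 := by
      rw [hm]
      have : (8 * m + 3) ^ 2 = 16 * (4 * m ^ 2 + 3 * m) + 9 := by ring
      rw [this]; omega
    rw [h1] at h
    omega
  · have h1 : q ^ 2 - 1 = 16 * (4 * m ^ 2 + 5 * m + 1) + 8 := by
      rw [hm]
      have : (8 * m + 5) ^ 2 = 16 * (4 * m ^ 2 + 5 * m + 1) + 9 := by ring
      rw [this]; omega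
    rw [h1] at h
    omega

theorem cond {F : Type} [Field F] [Fintype F] (h8 : Fintype.card F % 8 = 3 ∨ Fintype.card F % 8 = 5)
    (h5 : 5 ≤ Fintype.card F) (h : H4.CA.MN (Matrix.ProjectiveSpecialLinearGroup (Fin 2) F)) :
    ((Fintype.card F).Prime ∧ 5 < Fintype.card F ∧ ¬ 16 ∣ Fintype.card F ^ 2 - 1) ∨
      (∃ p : ℕ, p.Prime ∧ p ≠ 2 ∧ (Fintype.card F = 3 ^ p ∨ Fintype.card F = 5 ^ p)) := by
  have hne5 : Fintype.card F ≠ 5 := fun h5 => not_isCA h (ca_five h5)
  obtain ⟨p, hp⟩ := CharP.exists F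
  obtain ⟨n, hpp, hn⟩ := FiniteField.card F p
  haveI : Fact p.Prime := ⟨hpp⟩
  have hn1 : 1 ≤ (n : ℕ) := n.2
  have hodd : Odd (Fintype.card F) := by rw [Nat.odd_iff]; omega
  have hpodd : Odd p := by
    rw [hn] at hodd
    exact (Nat.odd_pow_iff (by omega)).1 hodd
  by_cases h1 : (n : ℕ) = 1
  · left
    rw [h1, pow_one] at hn
    exact ⟨hn ▸ hpp, by omega, numeric h8⟩
  right
  -- a prime divisor of `n`
  obtain ⟨r, hr, hrn⟩ := Nat.exists_prime_and_dvd h1
  obtain ⟨K, hK⟩ := exists_sub hn hr hrn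
  have hr2 : r ≠ 2 := by
    rintro rfl
    have h2 : Nat.card K % 8 = 0 ∨ Nat.card K % 8 = 1 ∨ Nat.card K % 8 = 2 ∨ Nat.card K % 8 = 3 ∨
      Nat.card K % 8 = 4 ∨ Nat.card K % 8 = 5 ∨ Nat.card K % 8 = 6 ∨ Nat.card K % 8 = 7 := by omega
    have h3 : Nat.card K ^ 2 % 8 = (Nat.card K % 8) ^ 2 % 8 := by rw [Nat.pow_mod]
    rw [hK] at h3
    rcases h2 with h2 | h2 | h2 | h2 | h2 | h2 | h2 | h2 <;> rw [h2] at h3 <;> omega
  have hr1 : 2 ≤ r := hr.two_le
  have hKle : Nat.card K ≤ 5 := by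
    by_contra hK5
    push_neg at hK5
    have hnsurj : ¬ Function.Surjective (K.subtype) := by
      intro hs
      have h4 : Nat.card F ≤ Nat.card K := Nat.card_le_card_of_surjective _ hs
      rw [Nat.card_eq_fintype_card, ← hK] at h4
      have h5 : Nat.card K ^ 1 < Nat.card K ^ r := Nat.pow_lt_pow_right (by omega) (by omega)
      rw [pow_one] at h5
      omega
    have h2K : (2 : K) ≠ 0 := by
      intro h2
      have h2F : ((2 : ℕ) : F) = 0 := by
        rw [Nat.cast_ofNat, ← map_ofNat K.subtype 2, h2, map_zero]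
      have h6 := (CharP.cast_eq_zero_iff F p 2).1 h2F
      have h7 := (Nat.prime_dvd_prime_iff_eq hpp Nat.prime_two).1 h6
      rw [h7] at hpodd
      exact absurd hpodd (by decide)
    exact not_ca K.subtype h2K hK5 (isCA_of h _ (range_ne_top _ hnsurj))
  have hKodd : Odd (Nat.card K) := by
    rw [← hK] at hodd
    exact (Nat.odd_pow_iff (by omega)).1 hodd
  have hK2 : 2 ≤ Nat.card K := by
    have : Nontrivial K := inferInstance
    exact Finite.one_lt_card
  refine ⟨r, hr, hr2, ?_⟩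
  have h35 : Nat.card K = 3 ∨ Nat.card K = 5 := by
    obtain ⟨m, hm⟩ := hKodd
    omega
  rcases h35 with h3 | h3 <;> rw [h3] at hK
  · left; exact hK.symm
  · right; exact hK.symm

end H18.CA4
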