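import Cfsg.Agent.Lib.H4.CA0
import Cfsg.Agent.Lib.H4.CAA
import Cfsg.Agent.Lib.H5.Centric
import Cfsg.Agent.Lib.H2.PGrp

/-!
S4369, piece E: with a nonabelian Sylow 2-subgroup `S`, `Z(S) ≤ Z(G)`.
-/

set_option autoImplicit false

namespace H18.CAE

open Subgroup H4.CA H4.CAA

universe u

variable {G : Type u} [Group G] [Finite G]

/-- a power of a noncentral 2-element which is noncentral, with square in the centre -/
theorem exists_pow {z : G} (hz : z ∉ center G) (h2 : ∃ k : ℕ, z ^ 2 ^ k = 1) :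
    ∃ j : ℕ, z ^ 2 ^ j ∉ center G ∧ (z ^ 2 ^ j) ^ 2 ∈ center G := by
  classical
  have hex : ∃ k : ℕ, z ^ 2 ^ k ∈ center G := by
    obtain ⟨k, hk⟩ := h2
    exact ⟨k, by rw [hk]; exact Subgroup.one_mem _⟩
  have h0 : Nat.find hex ≠ 0 := by
    intro h
    have h1 := Nat.find_spec hex
    rw [h, pow_zero, pow_one] at h1
    exact hz h1
  obtain ⟨j, hj⟩ := Nat.exists_eq_succ_of_ne_zero h0
  refine ⟨j, Nat.find_min hex (by omega), ?_⟩
  have h1 := Nat.find_spec hex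
  rw [hj, pow_succ, pow_mul] at h1
  exact h1

theorem isolated (h : Frame G) (S : Sylow 2 G) (hS : ∃ a ∈ S, ∃ b ∈ S, ¬ Commute a b) (z : G)
    (hz : z ∈ S) (hc : ∀ s ∈ S, Commute z s) (hzZ : z ∉ center G) (g : G)
    (hg : g * z * g⁻¹ ∈ (S : Subgroup G)) : g * z * g⁻¹ = z := by
  haveI : Fact (Nat.Prime 2) := ⟨Nat.prime_two⟩
  have hSp : IsPGroup 2 (S : Subgroup G) := S.isPGroup'
  refine H5.Centric.isolated_of_centric S hz (fun s hs => (hc s hs).symm) ?_ g hg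
  intro U hUS hzU _ hcen n hn
  by_contra hne
  have hprop : normalizer (U : Set G) ≠ ⊤ := by
    intro htop
    have hUn : U.Normal := Subgroup.normalizer_eq_top_iff.1 htop
    have hUp : IsPGroup 2 U := hSp.to_le hUS
    have hUs : Group.IsSolvable U := by
      haveI := hUp.isNilpotent
      infer_instance
    exact hzZ (h.solv U hUn hUs hzU)
  have hzN : z ∈ normalizer (U : Set G) := Subgroup.le_normalizer hzU
  have hab : ∀ a ∈ (S : Subgroup G), a ∈ normalizer (U : Set G) → ∀ b ∈ (S : Subgroup G),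
      b ∈ normalizer (U : Set G) → Commute a b := by
    intro a ha haN b hb hbN
    by_contra hnc
    exact hne (h.ca _ hprop z hzN a haN b hbN (hc a ha) (hc b hb) hnc n hn).symm.eq
  have hUeq : U = (S : Subgroup G) := by
    by_contra hneq
    obtain ⟨x, hxS, hxU, hxN⟩ := H2.PGrp.exists_mem_normalizer hSp (lt_of_le_of_ne hUS hneq)
    apply hxU
    apply hcen
    refine ⟨hxS, Subgroup.mem_centralizer_iff.2 fun y hy => ?_⟩
    exact hab y (hUS hy) (Subgroup.le_normalizer hy) x hxS hxN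
  obtain ⟨a, ha, b, hb, hnc⟩ := hS
  exact hnc (hab a ha (Subgroup.le_normalizer (hUeq ▸ ha)) b hb (Subgroup.le_normalizer (hUeq ▸ hb)))

theorem iso_comm (h : Frame G) (S : Sylow 2 G) (hS : ∃ a ∈ S, ∃ b ∈ S, ¬ Commute a b) (z : G)
    (hz : z ∈ S) (hc : ∀ s ∈ S, Commute z s) (hzZ : z ∉ center G) (g : G)
    (hg : Commute z (g * z * g⁻¹)) : g * z * g⁻¹ = z := by
  haveI : Fact (Nat.Prime 2) := ⟨Nat.prime_two⟩
  have hSp : IsPGroup 2 (S : Subgroup G) := S.isPGroup'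
  obtain ⟨k, hk⟩ : ∃ k : ℕ, z ^ 2 ^ k = 1 := by
    obtain ⟨k, hk⟩ := hSp ⟨z, hz⟩
    exact ⟨k, congrArg Subtype.val hk⟩
  -- `⟨z, w⟩` is a 2-group
  have hzp : IsPGroup 2 (zpowers z) := by
    rintro ⟨x, i, rfl⟩
    refine ⟨k, Subtype.ext ?_⟩
    show (z ^ i) ^ 2 ^ k = 1
    rw [← zpow_natCast, ← zpow_mul, mul_comm, zpow_mul, zpow_natCast, hk, one_zpow]
  have hwp : IsPGroup 2 (zpowers (g * z * g⁻¹)) := by
    have h1 := hzp.map (MulAut.conj g).toMonoidHom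
    rw [MonoidHom.map_zpowers] at h1
    exact h1
  have hle : zpowers (g * z * g⁻¹) ≤ normalizer ((zpowers z : Subgroup G) : Set G) := by
    rw [Subgroup.zpowers_le]
    apply Subgroup.centralizer_le_normalizer
    rw [Subgroup.mem_centralizer_iff]
    rintro y ⟨i, rfl⟩
    exact (hg.zpow_left i).eq
  have hsup : IsPGroup 2 (zpowers z ⊔ zpowers (g * z * g⁻¹) : Subgroup G) :=
    IsPGroup.to_sup_of_normal_left' hzp hwp hle
  obtain ⟨T, hT⟩ := hsup.exists_le_sylow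
  obtain ⟨m, hm⟩ := MulAction.exists_smul_eq G S T
  have hmem : ∀ y ∈ (T : Subgroup G), m⁻¹ * y * m ∈ (S : Subgroup G) := by
    intro y hy
    rw [← hm, Sylow.coe_subgroup_smul] at hy
    obtain ⟨s, hs, hs2⟩ := hy
    have h3 : m * s * m⁻¹ = y := hs2
    rw [← h3]
    have h4 : m⁻¹ * (m * s * m⁻¹) * m = s := by group
    rw [h4]
    exact hs
  have hiso := isolated h S hS z hz hc hzZ
  have h1 := hiso m⁻¹ (by
    have := hmem z (hT (Subgroup.mem_sup_left (mem_zpowers z)))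
    rwa [inv_inv])
  have h2 := hiso (m⁻¹ * g) (by
    have h3 := hmem _ (hT (Subgroup.mem_sup_right (mem_zpowers (g * z * g⁻¹))))
    have h4 : m⁻¹ * (g * z * g⁻¹) * m = m⁻¹ * g * z * (m⁻¹ * g)⁻¹ := by group
    rwa [h4] at h3)
  have h5 : m⁻¹ * g * z * (m⁻¹ * g)⁻¹ = m⁻¹ * (g * z * g⁻¹) * m := by group
  rw [h5] at h2
  calc g * z * g⁻¹ = m * (m⁻¹ * (g * z * g⁻¹) * m) * m⁻¹ := by group
    _ = m * z * m⁻¹ := by rw [h2]
    _ = m * (m⁻¹ * z * m⁻¹⁻¹) * m⁻¹ := by rw [h1]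
    _ = z := by group

/-- statement of piece D -/
def ZPrinc (G : Type u) [Group G] : Prop := ∀ z : G, Bad z → (∃ k : ℕ, z ^ 2 ^ k = 1) →
    z ^ 2 ∈ center G → (∀ g : G, Commute z (g * z * g⁻¹) → g * z * g⁻¹ = z) → False

theorem alpha_of (zp : ZPrinc G) (h : Frame G) (S : Sylow 2 G) (hS : ∃ a ∈ S, ∃ b ∈ S, ¬ Commute a b) (z : G)
    (hz : z ∈ S) (hc : ∀ s ∈ S, Commute z s) : z ∈ center G := by
  by_contra hzZ
  have h2 : ∃ k : ℕ, z ^ 2 ^ k = 1 := by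
    obtain ⟨k, hk⟩ := S.isPGroup' ⟨z, hz⟩
    exact ⟨k, congrArg Subtype.val hk⟩
  obtain ⟨j, hj1, hj2⟩ := exists_pow hzZ h2
  have hcj : ∀ s ∈ S, Commute (z ^ 2 ^ j) s := fun s hs => (hc s hs).pow_left _
  have hzS : z ^ 2 ^ j ∈ S := pow_mem hz _
  refine zp (z ^ 2 ^ j) ⟨hj1, ?_⟩ ?_ hj2 ?_
  · obtain ⟨a, ha, b, hb, hnc⟩ := hS
    exact ⟨a, b, hcj a ha, hcj b hb, hnc⟩
  · obtain ⟨k, hk⟩ := h2
    exact ⟨k, by rw [← pow_mul, mul_comm, pow_mul, hk, one_pow]⟩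
  · exact fun g hg => iso_comm h S hS _ hzS hcj hj1 g hg

end H18.CAE
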