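import Mathlib
import Cfsg.Agent.Lib.H94.PG24
import Cfsg.Agent.Lib.H6.SLCard
import Cfsg.Agent.Lib.H6.SLGen

/-!
Team T-CIT, M10, part 1: a simple group of order 20160 of automorphisms of a projective plane of order 4
is `PSL₃(4)`.
-/

set_option autoImplicit false
set_option linter.unusedSectionVars false

namespace H18.CITM10

open Cfsg H94.PG24 Module Projectivization
open scoped LinearAlgebra.Projectivization Pointwise

theorem mem_aut {α : Type*} [DecidableEq α] {L : Set (Finset α)} {g : Equiv.Perm α} :
    g ∈ setSystemAut L ↔ (fun b : Finset α => b.image g) '' L = L := by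
  rw [MulAction.mem_stabilizer_iff]
  exact Iff.rfl

theorem aut_image {α : Type*} [DecidableEq α] {L : Set (Finset α)} {g : Equiv.Perm α} (hg : g ∈ setSystemAut L)
    {l : Finset α} (hl : l ∈ L) : l.image g ∈ L := by
  rw [mem_aut] at hg
  rw [← hg]; exact ⟨l, hl, rfl⟩

/-! ### the order of the automorphism group -/

section aut
variable {α : Type*} [Fintype α] [DecidableEq α] {L : Set (Finset α)}

theorem Ind.image {k : ℕ} {S : Finset α} (h : Ind L k S) {g : Equiv.Perm α} (hg : g ∈ setSystemAut L) :
    Ind L k (S.image g) := by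
  rw [mem_aut] at hg
  refine ⟨by rw [Finset.card_image_of_injective _ g.injective]; exact h.1, ?_⟩
  intro l hl
  rw [← hg] at hl
  obtain ⟨m, hm, rfl⟩ := hl
  show (m.image g ∩ S.image g).card ≤ 2
  rw [← Finset.image_inter _ _ g.injective, Finset.card_image_of_injective _ g.injective]
  exact h.2 m hm

/-- the restriction of a permutation to a subset -/
def resEquiv (H : Finset α) (g : Equiv.Perm α) : ↥H ≃ ↥(H.image g) :=
  Equiv.subtypeEquiv g (fun a => by
    rw [Finset.mem_image]
    refine ⟨fun h => ⟨a, h, rfl⟩, ?_⟩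
    rintro ⟨b, hb, hba⟩
    rw [← g.injective hba]; exact hb)

theorem card_aut_le (h : Plane L) : Nat.card (setSystemAut L) ≤ 168 * 720 := by
  classical
  obtain ⟨H, hH⟩ := h.exists_hyperoval
  have hyp : Nat.card {K : Finset α // Hyp L K} = 168 := by
    have := h.hyp
    rw [← this]; rfl
  let φ : setSystemAut L → (Σ K : {K : Finset α // Hyp L K}, (↥H ≃ ↥K.1)) := fun g =>
    ⟨⟨H.image g.1, Ind.image hH g.2⟩, resEquiv H g.1⟩
  have hφ : Function.Injective φ := by
    intro g g' hgg
    have key : ∀ a : ↥H, g.1 a = g'.1 a := by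
      intro a
      have : ((φ g).2 a : α) = ((φ g').2 a : α) := by rw [hgg]
      exact this
    apply Subtype.ext
    apply ext_unique h hH h (Ind.image hH g.2) (resEquiv H g.1)
    · exact fun l hl => aut_image g.2 hl
    · exact fun l hl => aut_image g'.2 hl
    · intro a; rfl
    · intro a; exact (key a).symm
  have hc : Nat.card (Σ K : {K : Finset α // Hyp L K}, (↥H ≃ ↥K.1)) = 168 * 720 := by
    rw [Nat.card_sigma]
    have : ∀ K : {K : Finset α // Hyp L K}, Nat.card (↥H ≃ ↥K.1) = 720 := by
      intro K
      have e : ↥H ≃ ↥K.1 := Finset.equivOfCardEq (hH.1.trans K.2.1.symm)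
      rw [Nat.card_eq_fintype_card, Fintype.card_equiv e, Fintype.card_coe, hH.1]
      rfl
    rw [Finset.sum_congr rfl (fun K _ => this K), Finset.sum_const, Finset.card_univ, ← Nat.card_eq_fintype_card, hyp,
      smul_eq_mul]
  rw [← hc]
  exact Nat.card_le_card_of_injective φ hφ

end aut

/-! ### the plane of `F³` -/

section pg
variable (F : Type*) [Field F] [Fintype F]

/-- lines of the projective plane of `F³` as sets of points -/
def Lpg : Set (Finset (ℙ F (Fin 3 → F))) :=
  {l | ∃ W : Submodule F (Fin 3 → F), finrank F W = 2 ∧ ∀ p : ℙ F (Fin 3 → F), p ∈ l ↔ p.submodule ≤ W}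

variable {F}

theorem card_pg (hF : Fintype.card F = 4) : Nat.card (ℙ F (Fin 3 → F)) = 21 := by
  rw [Projectivization.card_of_finrank F (Fin 3 → F) (n := 3) (by simp), Nat.card_eq_fintype_card, hF]
  rfl

theorem mem_iff_mk {W : Submodule F (Fin 3 → F)} (p : ℙ F (Fin 3 → F)) : p.submodule ≤ W ↔ p.rep ∈ W := by
  rw [← Projectivization.mk_rep p, Projectivization.submodule_mk, Submodule.span_singleton_le_iff_mem,
    Projectivization.mk_rep]

/-- points of a line -/
noncomputable def ptEquiv (W : Submodule F (Fin 3 → F)) : ℙ F W ≃ {p : ℙ F (Fin 3 → F) // p.submodule ≤ W} := by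
  refine Equiv.ofBijective (fun x => ⟨Projectivization.map W.subtype W.injective_subtype x, ?_⟩) ⟨?_, ?_⟩
  · induction x using Projectivization.ind with
    | h v hv =>
      rw [Projectivization.map_mk, Projectivization.submodule_mk, Submodule.span_singleton_le_iff_mem,
        Submodule.subtype_apply]
      exact v.2
  · intro x y hxy
    exact Projectivization.map_injective _ W.injective_subtype (Subtype.ext_iff.1 hxy)
  · rintro ⟨p, hp⟩
    induction p using Projectivization.ind with
    | h v hv =>
      rw [Projectivization.submodule_mk, Submodule.span_singleton_le_iff_mem] at hp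
      refine ⟨Projectivization.mk F (⟨v, hp⟩ : W) (fun h => hv (by simpa using h)), ?_⟩
      apply Subtype.ext
      show Projectivization.map W.subtype W.injective_subtype (Projectivization.mk F (⟨v, hp⟩ : W) _) =
        Projectivization.mk F v hv
      rw [Projectivization.map_mk]
      rfl

theorem card_pts (hF : Fintype.card F = 4) {W : Submodule F (Fin 3 → F)} (hW : finrank F W = 2) :
    Nat.card {p : ℙ F (Fin 3 → F) // p.submodule ≤ W} = 5 := by
  rw [← Nat.card_congr (ptEquiv W), Projectivization.card_of_finrank_two F W hW, Nat.card_eq_fintype_card, hF]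

theorem plane_pg [Fintype (ℙ F (Fin 3 → F))] [DecidableEq (ℙ F (Fin 3 → F))] (hF : Fintype.card F = 4) :
    Plane (Lpg F) := by
  classical
  refine ⟨by rw [← Nat.card_eq_fintype_card]; exact card_pg hF, ?_, ?_⟩
  · rintro l ⟨W, hW, hl⟩
    rw [← card_pts hF hW, Nat.card_eq_fintype_card, Fintype.card_subtype]
    congr 1
    ext p
    rw [hl p]; simp
  · intro s hs
    rw [Finset.card_eq_two] at hs
    obtain ⟨x, y, hxy, rfl⟩ := hs
    induction x using Projectivization.ind with
    | h u hu =>
    induction y using Projectivization.ind with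
    | h v hv =>
    set W : Submodule F (Fin 3 → F) := Submodule.span F {u, v} with hWd
    have hW : finrank F W = 2 := by
      have hli : LinearIndependent F ![u, v] := by
        rw [LinearIndependent.pair_iff' hu]
        intro a ha
        apply hxy
        rw [Projectivization.mk_eq_mk_iff']
        by_cases ha0 : a = 0
        · exfalso; apply hv; rw [← ha, ha0, zero_smul]
        · refine ⟨a⁻¹, ?_⟩
          rw [← ha, smul_smul, inv_mul_cancel₀ ha0, one_smul]
      have := finrank_span_eq_card hli
      rw [Matrix.range_cons, Matrix.range_cons, Matrix.range_empty, Set.union_empty, Fintype.card_fin] at this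
      rw [hWd]
      exact this
    refine ⟨Finset.univ.filter fun p => p.submodule ≤ W, ⟨⟨W, hW, fun p => by simp⟩, ?_⟩, ?_⟩
    · intro p hp
      rw [Finset.mem_insert, Finset.mem_singleton] at hp
      rw [Finset.mem_filter]
      refine ⟨Finset.mem_univ _, ?_⟩
      rcases hp with rfl | rfl
      · rw [Projectivization.submodule_mk, Submodule.span_singleton_le_iff_mem]
        exact Submodule.subset_span (by simp)
      · rw [Projectivization.submodule_mk, Submodule.span_singleton_le_iff_mem]
        exact Submodule.subset_span (by simp)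
    · rintro m ⟨⟨W', hW', hm⟩, hsub⟩
      have h1 : (Projectivization.mk F u hu).submodule ≤ W' := (hm _).1 (hsub (by simp))
      have h2 : (Projectivization.mk F v hv).submodule ≤ W' := (hm _).1 (hsub (by simp))
      rw [Projectivization.submodule_mk, Submodule.span_singleton_le_iff_mem] at h1 h2
      have h3 : W ≤ W' := by
        rw [hWd, Submodule.span_le]
        rintro z hz
        rw [Set.mem_insert_iff, Set.mem_singleton_iff] at hz
        rcases hz with rfl | rfl <;> assumption
      have h4 : W = W' := Submodule.eq_of_le_of_finrank_eq h3 (by rw [hW, hW'])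
      ext p
      rw [hm p, Finset.mem_filter, ← h4]
      simp

/-- `PSL₃` acts on the plane -/
theorem psl_mem_aut [Fintype (ℙ F (Fin 3 → F))] [DecidableEq (ℙ F (Fin 3 → F))] (hF : Fintype.card F = 4)
    (g : Matrix.ProjectiveSpecialLinearGroup (Fin 3) F) :
    PSLAction.toPermHom g ∈ setSystemAut (Lpg F) := by
  obtain ⟨g, rfl⟩ := QuotientGroup.mk_surjective g
  rw [mem_aut]
  apply image_eq (plane_pg hF) (plane_pg hF)
  rintro l ⟨W, hW, hl⟩
  refine ⟨W.map (Matrix.SpecialLinearGroup.toLin' g : (Fin 3 → F) →ₗ[F] (Fin 3 → F)), ?_, ?_⟩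
  · rw [LinearEquiv.finrank_map_eq]; exact hW
  · intro p
    rw [Finset.mem_image]
    constructor
    · rintro ⟨a, ha, rfl⟩
      rw [hl a] at ha
      induction a using Projectivization.ind with
      | h v hv =>
      rw [Projectivization.submodule_mk, Submodule.span_singleton_le_iff_mem] at ha
      show (g • Projectivization.mk F v hv).submodule ≤ _
      rw [Projectivization.smul_mk, Projectivization.submodule_mk, Submodule.span_singleton_le_iff_mem]
      exact ⟨v, ha, rfl⟩
    · intro hp
      induction p using Projectivization.ind with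
      | h w hw =>
      rw [Projectivization.submodule_mk, Submodule.span_singleton_le_iff_mem] at hp
      obtain ⟨v, hv, hvw⟩ := hp
      have hv0 : v ≠ 0 := by
        rintro rfl
        apply hw; rw [← hvw, map_zero]
      refine ⟨Projectivization.mk F v hv0, ?_, ?_⟩
      · rw [hl, Projectivization.submodule_mk, Submodule.span_singleton_le_iff_mem]; exact hv
      · show g • Projectivization.mk F v hv0 = _
        rw [Projectivization.smul_mk]
        congr 1

theorem card_psl3 (hF : Fintype.card F = 4) : Nat.card (Matrix.ProjectiveSpecialLinearGroup (Fin 3) F) = 20160 := by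
  have := H6.SLCard.card_psl (F := F) (n := 3) (by norm_num)
  rw [hF, Fin.prod_univ_three] at this
  norm_num at this
  omega

end pg

/-! ### identification -/

theorem ident {G : Type*} [Group G] [Finite G] [IsSimpleGroup G] (hc : Nat.card G = 20160) {α : Type*}
    [Fintype α] [DecidableEq α] {L : Set (Finset α)} (h : Plane L) (f : G →* Equiv.Perm α)
    (hf : Function.Injective f) (hL : ∀ g, f g ∈ setSystemAut L) {F : Type*} [Field F] [Fintype F]
    (hF : Fintype.card F = 4) : Nonempty (G ≃* Matrix.ProjectiveSpecialLinearGroup (Fin 3) F) := by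
  classical
  have : Fintype (ℙ F (Fin 3 → F)) := Fintype.ofFinite _
  have hpg := plane_pg (F := F) hF
  obtain ⟨H, hH⟩ := h.exists_hyperoval
  obtain ⟨H', hH'⟩ := hpg.exists_hyperoval
  have hcc : H.card = H'.card := by rw [hH.1, hH'.1]
  let e : α ≃ ℙ F (Fin 3 → F) := eExt h hH hpg hH' (Finset.equivOfCardEq hcc)
  have he : ∀ l ∈ L, l.image e ∈ Lpg F := fun l hl => eExt_line h hH hpg hH' _ hl
  have he' : (fun b : Finset α => b.image e) '' L = Lpg F := image_eq h hpg he
  let f' : G →* Equiv.Perm (ℙ F (Fin 3 → F)) := (e.permCongrHom.toMonoidHom).comp f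
  have hf'1 : ∀ g x, f' g x = e (f g (e.symm x)) := fun g x => rfl
  have hf' : Function.Injective f' := e.permCongrHom.injective.comp hf
  set A := setSystemAut (Lpg F) with hA
  have hfA : ∀ g, f' g ∈ A := by
    intro g
    rw [hA, mem_aut]
    apply image_eq hpg hpg
    intro l hl
    rw [← he'] at hl
    obtain ⟨m, hm, rfl⟩ := hl
    have h1 := he _ (aut_image (hL g) hm)
    convert h1 using 1
    rw [Finset.image_image, Finset.image_image]
    apply Finset.image_congr
    intro x _
    show f' g (e x) = e (f g x)
    rw [hf'1, e.symm_apply_apply]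
  set P : Subgroup (Equiv.Perm (ℙ F (Fin 3 → F))) :=
    (PSLAction.toPermHom : Matrix.ProjectiveSpecialLinearGroup (Fin 3) F →* _).range with hP
  have hPA : P ≤ A := by
    rintro _ ⟨g, rfl⟩
    exact psl_mem_aut hF g
  have hPc : Nat.card P = 20160 := by
    rw [← card_psl3 hF]
    exact (Nat.card_congr
      (MonoidHom.ofInjective Matrix.ProjectiveSpecialLinearGroup.toPermHom_injective).toEquiv).symm
  have hP'c : Nat.card (P.subgroupOf A) = 20160 := by
    rw [← hPc]
    exact Nat.card_congr (Subgroup.subgroupOfEquivOfLe hPA).toEquiv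
  have hidx : (P.subgroupOf A).index ≤ 6 := by
    have h1 := Subgroup.index_mul_card (P.subgroupOf A)
    have h2 := card_aut_le hpg
    rw [← hA] at h2
    rw [hP'c] at h1
    omega
  let fA : G →* A := f'.codRestrict A hfA
  let ψ : G →* Equiv.Perm (A ⧸ P.subgroupOf A) := (MulAction.toPermHom A (A ⧸ P.subgroupOf A)).comp fA
  have hψ : ψ.ker = ⊤ := by
    rcases IsSimpleGroup.eq_bot_or_eq_top_of_normal ψ.ker inferInstance with h0 | h0
    · exfalso
      rw [MonoidHom.ker_eq_bot_iff] at h0
      have h1 := Nat.card_le_card_of_injective ψ h0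
      have : Fintype (A ⧸ P.subgroupOf A) := Fintype.ofFinite _
      rw [hc, Nat.card_eq_fintype_card, Fintype.card_perm, ← Nat.card_eq_fintype_card] at h1
      have h2 : Nat.card (A ⧸ P.subgroupOf A) ≤ 6 := hidx
      have h3 := Nat.factorial_le h2
      have h4 : Nat.factorial 6 = 720 := rfl
      omega
    · exact h0
  have hle : f'.range ≤ P := by
    rintro _ ⟨g, rfl⟩
    have h1 : g ∈ ψ.ker := by rw [hψ]; trivial
    rw [MonoidHom.mem_ker] at h1
    have h2 : fA g • ((1 : A) : A ⧸ P.subgroupOf A) = ((1 : A) : A ⧸ P.subgroupOf A) :=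
      congrArg (fun σ : Equiv.Perm (A ⧸ P.subgroupOf A) => σ ((1 : A) : A ⧸ P.subgroupOf A)) h1
    have h3 : ((fA g * 1 : A) : A ⧸ P.subgroupOf A) = ((1 : A) : A ⧸ P.subgroupOf A) := h2
    rw [mul_one] at h3
    have h4 := QuotientGroup.eq.1 h3.symm
    rw [inv_one, one_mul, Subgroup.mem_subgroupOf] at h4
    exact h4
  have hcr : Nat.card f'.range = 20160 := by
    rw [← hc]
    exact (Nat.card_congr (MonoidHom.ofInjective hf').toEquiv).symm
  have heq : f'.range = P := Subgroup.eq_of_le_of_card_ge hle (by rw [hPc, hcr])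
  exact ⟨(MonoidHom.ofInjective hf').trans ((MulEquiv.subgroupCongr heq).trans
    (MonoidHom.ofInjective Matrix.ProjectiveSpecialLinearGroup.toPermHom_injective).symm)⟩

end H18.CITM10
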