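import Cfsg.Agent.Lib.H18.CITM10f
import Cfsg.Agent.Lib.H18.CITM10a

/-!
Team T-CIT, M10: `PSL₃(4)` from local data.
-/

set_option autoImplicit false
set_option linter.unusedSectionVars false

namespace H18.CITM10

open Subgroup Lead.CIT H28.Cj H28.RelSyl H28.CITM7 H55.CITM2

universe u

section
variable {G : Type u} [Group G] [Finite G] {V V' S : Subgroup G}

instance actPt : MulAction G {W : Subgroup G // Pt V W} where
  smul g W := ⟨cj g W.1, W.2.cj g⟩
  one_smul W := Subtype.ext (cj_one _)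
  mul_smul g h W := Subtype.ext (cj_cj g h W.1).symm

theorem smul_val (g : G) (W : {W : Subgroup G // Pt V W}) : (g • W).1 = cj g W.1 := rfl

/-- blocks -/
def Blk (V V' : Subgroup G) : Set (Finset {W : Subgroup G // Pt V W}) :=
  {l | ∃ M, Pt V' M ∧ ∀ W : {W : Subgroup G // Pt V W}, W ∈ l ↔ Inc V V' W.1 M}

theorem plane (c : Cf 4 V V' S) (st : IsSyl 2 S ⊤) [Fintype {W : Subgroup G // Pt V W}]
    [DecidableEq {W : Subgroup G // Pt V W}] : H94.PG24.Plane (Blk V V') := by
  classical
  refine ⟨by rw [← Nat.card_eq_fintype_card]; exact card_pt c st, ?_, ?_⟩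
  · rintro l ⟨M, hM, hl⟩
    have h1 : Nat.card l = Nat.card {W : Subgroup G // Inc V V' W M} :=
      Nat.card_congr
        { toFun := fun W => ⟨W.1.1, (hl W.1).1 W.2⟩
          invFun := fun W => ⟨⟨W.1, W.2.pt⟩, (hl _).2 W.2⟩
          left_inv := fun W => rfl
          right_inv := fun W => rfl }
    rw [card_points c st hM, Nat.card_eq_fintype_card, Fintype.card_coe] at h1
    exact h1
  · intro s hs
    rw [Finset.card_eq_two] at hs
    obtain ⟨x, y, hxy, rfl⟩ := hs
    have hne : x.1 ≠ y.1 := fun h => hxy (Subtype.ext h)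
    obtain ⟨M, hM1, hM2⟩ := coll c st x.2 y.2 hne
    refine ⟨Finset.univ.filter fun W => Inc V V' W.1 M, ⟨⟨M, hM1.ln, fun W => by simp⟩, ?_⟩, ?_⟩
    · intro p hp
      rw [Finset.mem_insert, Finset.mem_singleton] at hp
      rw [Finset.mem_filter]
      refine ⟨Finset.mem_univ _, ?_⟩
      rcases hp with rfl | rfl
      · exact hM1
      · exact hM2
    · rintro m ⟨⟨M', hM', hm⟩, hsub⟩
      have h1 : Inc V V' x.1 M' := (hm _).1 (hsub (by simp))
      have h2 : Inc V V' y.1 M' := (hm _).1 (hsub (by simp))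
      have h3 : M' = M := one_line c st hne h1 hM1 h2 hM2
      ext W
      rw [hm W, h3, Finset.mem_filter]
      simp

theorem l34' [IsSimpleGroup G] (c : Cf 4 V V' S) (st : IsSyl 2 S ⊤) {F : Type*} [Field F] [Fintype F]
    (hF : Fintype.card F = 4) : Nonempty (G ≃* Matrix.ProjectiveSpecialLinearGroup (Fin 3) F) := by
  classical
  have : Fintype {W : Subgroup G // Pt V W} := Fintype.ofFinite _
  have hpl := plane c st
  let f : G →* Equiv.Perm {W : Subgroup G // Pt V W} := MulAction.toPermHom G _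
  have hf1 : ∀ g W, f g W = g • W := fun g W => rfl
  have hcG := card_G c st
  have hf : Function.Injective f := by
    rw [← MonoidHom.ker_eq_bot_iff]
    rcases IsSimpleGroup.eq_bot_or_eq_top_of_normal f.ker inferInstance with h0 | h0
    · exact h0
    · exfalso
      have h1 : normalizer (V : Set G) = ⊤ := by
        rw [eq_top_iff]
        intro g _
        have h2 : g ∈ f.ker := by rw [h0]; trivial
        rw [MonoidHom.mem_ker] at h2
        have h3 : f g ⟨V, 1, (cj_one _).symm⟩ = ⟨V, 1, (cj_one _).symm⟩ := by rw [h2]; rfl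
        have h4 : cj g V = V := congrArg Subtype.val h3
        exact mem_normalizer_iff_cj.2 h4
      have h5 := CITM10.card_norm c
      rw [h1, card_top, hcG] at h5
      omega
  refine ident hcG hpl f hf ?_ hF
  intro g
  rw [mem_aut]
  apply H94.PG24.image_eq hpl hpl
  rintro l ⟨M, hM, hl⟩
  refine ⟨cj g M, hM.cj g, ?_⟩
  intro W
  rw [Finset.mem_image]
  constructor
  · rintro ⟨W', hW', rfl⟩
    exact ((hl W').1 hW').cj g
  · intro hW
    refine ⟨g⁻¹ • W, ?_, ?_⟩
    · rw [hl, smul_val]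
      have := hW.cj g⁻¹
      rwa [cj_inv_cj] at this
    · rw [hf1, smul_inv_smul]

end

/-- **T-CIT M10** -/
theorem l34 {G : Type u} [Group G] [Finite G] [IsSimpleGroup G] (hS : Sep G) {V V' S : Subgroup G} (h : Nat2 4 V)
    (h' : Nat2 4 V') (hP : IsSyl 2 S (normalizer (V : Set G))) (hP' : IsSyl 2 S (normalizer (V' : Set G)))
    (hf : ¬ V' ≤ centralizer (V : Set G)) (hST : IsSyl 2 S ⊤) :
    ∃ (F : Type) (_ : Field F) (_ : Fintype F), Fintype.card F = 4 ∧
        Nonempty (G ≃* Matrix.ProjectiveSpecialLinearGroup (Fin 3) F) := by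
  obtain ⟨h1, h2, h3, h4, h5, h6⟩ := b_one hS h h' hP hP' hf
  have c : Cf 4 V V' S := ⟨hS, by norm_num, h, h', hP, hP', h1, h2, h3, h4, h5, h6⟩
  have : Fact (Nat.Prime 2) := ⟨Nat.prime_two⟩
  have : Fintype (GaloisField 2 2) := Fintype.ofFinite _
  have hc : Fintype.card (GaloisField 2 2) = 4 := by
    rw [← Nat.card_eq_fintype_card, GaloisField.card 2 2 (by norm_num)]
    norm_num
  exact ⟨GaloisField 2 2, inferInstance, inferInstance, hc, l34' c hST hc⟩

end H18.CITM10
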