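import Mathlib
import Cfsg.Agent.Lib.Lead.CITBase
import Cfsg.Agent.Lib.H1.Cyc
import Cfsg.Agent.Lib.H31.CoprimeCoset

/-!
Team T-CIT, M10, part 2: the normaliser of a point (a group of shape `2⁴ : A₅`).
-/

set_option autoImplicit false
set_option linter.unusedSectionVars false

namespace H18.CITM10

open Subgroup Lead.CIT

structure NData {H : Type*} [Group H] (A : Subgroup H) : Prop where
  sep : Sep H
  nor : A.Normal
  ea : ∀ x ∈ A, x * x = 1
  card : Nat.card A = 16
  cA : centralizer (A : Set H) = A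
  le : ∀ P : Sylow 2 H, A ≤ P
  cardP : ∀ P : Sylow 2 H, Nat.card P = 64
  cz : ∀ P : Sylow 2 H, Nat.card (A ⊓ centralizer (P : Set H) : Subgroup H) = 4
  fix : ∀ P : Sylow 2 H, ∀ x ∈ P, x ∉ A → ∀ v ∈ A, x * v = v * x → v ∈ centralizer (P : Set H)
  comm : ∀ P : Sylow 2 H, ∀ x ∈ P, ∀ v ∈ A, v * x * v⁻¹ * x⁻¹ ∈ centralizer (P : Set H)
  gen : ∀ P Q : Sylow 2 H, P ≠ Q → (P : Subgroup H) ⊔ Q = ⊤
  ex : ∃ P Q : Sylow 2 H, P ≠ Q

/-! ### permutations of five points -/

set_option maxRecDepth 100000 in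
theorem eq_s1 : ∀ σ : Equiv.Perm (Fin 5), σ 4 = 4 → σ 0 = 1 → σ 1 = 0 → (∀ c, c ≠ 4 → σ c ≠ c) →
    σ = Equiv.swap 0 1 * Equiv.swap 2 3 := by decide +kernel

set_option maxRecDepth 100000 in
theorem eq_s2 : ∀ σ : Equiv.Perm (Fin 5), σ 3 = 3 → σ 0 = 1 → σ 1 = 0 → (∀ c, c ≠ 3 → σ c ≠ c) →
    σ = Equiv.swap 0 1 * Equiv.swap 2 4 := by decide +kernel

theorem pow3 : ((Equiv.swap 0 1 * Equiv.swap 2 3) * (Equiv.swap 0 1 * Equiv.swap 2 4) : Equiv.Perm (Fin 5)) ^ 3 = 1 := by
  decide +kernel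

theorem ne1 : ((Equiv.swap 0 1 * Equiv.swap 2 3) * (Equiv.swap 0 1 * Equiv.swap 2 4) : Equiv.Perm (Fin 5)) ≠ 1 := by
  decide +kernel

set_option maxRecDepth 100000 in
theorem no15 : ∀ σ : Equiv.Perm (Fin 5), σ ^ 15 = 1 → σ ^ 5 = 1 ∨ σ ^ 3 = 1 := by decide +kernel

section
variable {H : Type*} [Group H] [Finite H] {A : Subgroup H}

/-- a nontrivial 2-element has an involution among its powers -/
theorem exists_inv {x : H} (hx : x ≠ 1) {k : ℕ} (h : x ^ 2 ^ k = 1) : ∃ t : H, orderOf t = 2 ∧ t ∈ zpowers x := by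
  have h1 : orderOf x ∣ 2 ^ k := orderOf_dvd_of_pow_eq_one h
  obtain ⟨m, hm, hm2⟩ := (Nat.dvd_prime_pow Nat.prime_two).1 h1
  have hm0 : m ≠ 0 := by
    rintro rfl
    rw [pow_zero, orderOf_eq_one_iff] at hm2
    exact hx hm2
  refine ⟨x ^ 2 ^ (m - 1), ?_, pow_mem (mem_zpowers x) _⟩
  rw [orderOf_pow' x (by positivity), hm2]
  obtain ⟨n, rfl⟩ : ∃ n, m = n + 1 := ⟨m - 1, by omega⟩
  have : Nat.gcd (2 ^ (n + 1)) (2 ^ (n + 1 - 1)) = 2 ^ n := by
    rw [Nat.add_sub_cancel, Nat.gcd_comm]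
    exact Nat.gcd_eq_left (pow_dvd_pow 2 (by omega))
  rw [this, pow_succ, Nat.mul_div_cancel_left _ (by positivity)]

/-- in a `Sep` group odd elements do not commute with 2-elements -/
theorem sep2 (hS : Sep H) {x y : H} (hx : Odd (orderOf x)) (hy : y ≠ 1) {k : ℕ} (hk : y ^ 2 ^ k = 1)
    (h : x * y = y * x) : x = 1 := by
  obtain ⟨t, ht, hty⟩ := exists_inv hy hk
  obtain ⟨n, rfl⟩ := mem_zpowers_iff.1 hty
  exact hS x _ ht hx ((Commute.zpow_right (show Commute x y from h) n))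

/-- an element of odd prime order -/
theorem exists_odd {K : Subgroup H} (h : ¬ IsPGroup 2 K) : ∃ x ∈ K, ∃ r : ℕ, r.Prime ∧ r ≠ 2 ∧ orderOf x = r := by
  by_contra hcon
  push Not at hcon
  apply h
  rw [IsPGroup.iff_card]
  obtain ⟨k, m, hm, hk⟩ := Nat.exists_eq_two_pow_mul_odd (Nat.card_pos (α := K)).ne'
  refine ⟨k, ?_⟩
  have : m = 1 := by
    by_contra hm1
    obtain ⟨r, hr, hrm⟩ := Nat.exists_prime_and_dvd hm1
    have := Fact.mk hr
    obtain ⟨x, hx⟩ := exists_prime_orderOf_dvd_card' r (hrm.trans (hk ▸ Dvd.intro_left _ rfl) : r ∣ Nat.card K)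
    apply hcon x x.2 r hr
    · rintro rfl
      rw [← Nat.not_even_iff_odd] at hm
      exact hm (even_iff_two_dvd.2 hrm)
    · rw [Subgroup.orderOf_coe, hx]
  rw [hk, this, mul_one]

theorem NData.sq (h : NData A) (P : Sylow 2 H) {x : H} (hx : x ∈ P) : x * x ∈ A := by
  rw [← h.cA, mem_centralizer_iff]
  intro v hv
  have hc := h.comm P x hx v hv
  have hn := h.nor
  have h1 : x * v * x⁻¹ ∈ A := hn.conj_mem v hv x
  have hv1 : v⁻¹ = v := inv_eq_of_mul_eq_one_left (h.ea v hv)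
  have h2 : x⁻¹ * x⁻¹⁻¹ = 1 := inv_mul_cancel x⁻¹ |> fun h => by simpa using h
  set c := v * x * v⁻¹ * x⁻¹ with hcdef
  have hcA : c ∈ A := by
    have : c = v * (x * v⁻¹ * x⁻¹) := by rw [hcdef]; group
    rw [this]
    exact A.mul_mem hv (hn.conj_mem _ (A.inv_mem hv) x)
  have hcx : x * c = c * x := (mem_centralizer_iff.1 hc) x hx
  have hcc : c * c = 1 := h.ea c hcA
  have hxv : x * v = v * c * x := by
    have : c * x = v * x * v⁻¹ := by rw [hcdef]; group
    rw [mul_assoc, this, hv1, ← mul_assoc, ← mul_assoc, h.ea v hv, one_mul]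
  calc v * (x * x) = v * 1 * (x * x) := by rw [mul_one]
    _ = v * (c * c) * (x * x) := by rw [hcc]
    _ = (v * c) * (c * x) * x := by group
    _ = (v * c) * (x * c) * x := by rw [hcx]
    _ = (v * c * x) * (c * x) := by group
    _ = (x * v) * (x * c) := by rw [hxv, hcx]
    _ = x * (v * (x * c)) := by group
    _ = x * (v * (c * x)) := by rw [hcx]
    _ = x * (v * c * x) := by group
    _ = x * (x * v) := by rw [hxv]
    _ = x * x * v := by group

theorem NData.zdisj (h : NData A) {P Q : Sylow 2 H} (hPQ : P ≠ Q) {v : H} (hv : v ∈ A)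
    (hP : v ∈ centralizer (P : Set H)) (hQ : v ∈ centralizer (Q : Set H)) : v = 1 := by
  by_contra hv1
  have h2 : orderOf v = 2 := by
    apply orderOf_eq_prime
    · rw [pow_two]; exact h.ea v hv
    · exact hv1
  have hall : ∀ x : H, x * v = v * x := by
    intro x
    have h1 : (P : Subgroup H) ⊔ Q ≤ centralizer {v} := by
      apply sup_le
      · intro y hy
        rw [mem_centralizer_singleton_iff]
        exact (mem_centralizer_iff.1 hP y hy)
      · intro y hy
        rw [mem_centralizer_singleton_iff]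
        exact (mem_centralizer_iff.1 hQ y hy)
    rw [h.gen P Q hPQ] at h1
    exact mem_centralizer_singleton_iff.1 (h1 (mem_top x))
  apply hPQ
  have hp : IsPGroup 2 (⊤ : Subgroup H) := by
    by_contra hcon
    obtain ⟨x, -, r, hr, hr2, hxr⟩ := exists_odd hcon
    have := h.sep x v h2 (by rw [hxr]; exact hr.odd_of_ne_two hr2) (hall x)
    rw [this, orderOf_one] at hxr
    exact hr.one_lt.ne hxr
  have h3 := P.is_maximal' hp le_top
  have h4 := Q.is_maximal' hp le_top
  apply Sylow.ext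
  rw [← h3]; exact h4

theorem NData.inter (h : NData A) {P Q : Sylow 2 H} (hPQ : P ≠ Q) {x : H} (hP : x ∈ P) (hQ : x ∈ Q) : x ∈ A := by
  by_contra hx
  have h4 := h.cz P
  rcases (A ⊓ centralizer (P : Set H) : Subgroup H).bot_or_exists_ne_one with h0 | ⟨v, hv, hv1⟩
  · rw [h0, card_bot] at h4
    omega
  · apply hv1
    rw [mem_inf] at hv
    exact h.zdisj hPQ hv.1 hv.2 (h.fix Q x hQ hx v hv.1 (mem_centralizer_iff.1 hv.2 x hP))

theorem card_ne_one (B : Subgroup H) : Nat.card {v : H // v ∈ B ∧ v ≠ 1} + 1 = Nat.card B := by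
  have h1 : Nat.card {v : H // v ∈ B ∧ v ≠ 1} = ((B : Set H) \ {1}).ncard := by
    rw [← Nat.card_coe_set_eq]; rfl
  rw [h1, Set.ncard_diff_singleton_add_one B.one_mem (Set.toFinite _), ← Nat.card_coe_set_eq]
  rfl

/-- the centre of `P` inside `A`, nontrivial part -/
abbrev Zf (A : Subgroup H) (P : Sylow 2 H) : Type _ :=
  {v : H // v ∈ (A ⊓ centralizer (P : Set H) : Subgroup H) ∧ v ≠ 1}

def zmap (A : Subgroup H) (s : Σ P : Sylow 2 H, Zf A P) : {v : H // v ∈ A ∧ v ≠ 1} :=
  ⟨s.2.1, (mem_inf.1 s.2.2.1).1, s.2.2.2⟩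

theorem NData.zmap_inj (h : NData A) : Function.Injective (zmap A) := by
  rintro ⟨P, v⟩ ⟨Q, w⟩ hvw
  have hvw' : v.1 = w.1 := Subtype.ext_iff.1 hvw
  have : P = Q := by
    by_contra hPQ
    exact v.2.2 (h.zdisj hPQ (mem_inf.1 v.2.1).1 (mem_inf.1 v.2.1).2 (by rw [hvw']; exact (mem_inf.1 w.2.1).2))
  subst this
  have : v = w := Subtype.ext hvw'
  rw [this]

theorem NData.card_src (h : NData A) : Nat.card (Σ P : Sylow 2 H, Zf A P) = Nat.card (Sylow 2 H) * 3 := by
  classical
  have hZ : ∀ P, Nat.card (Zf A P) = 3 := by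
    intro P
    have h1 := h.cz P
    have h2 := card_ne_one (A ⊓ centralizer (P : Set H) : Subgroup H)
    rw [h1] at h2
    show Nat.card {v : H // v ∈ (A ⊓ centralizer (P : Set H) : Subgroup H) ∧ v ≠ 1} = 3
    omega
  have : Fintype (Sylow 2 H) := Fintype.ofFinite _
  rw [Nat.card_sigma, Finset.sum_congr rfl (fun P _ => hZ P), Finset.sum_const, Finset.card_univ,
    ← Nat.card_eq_fintype_card, smul_eq_mul]

theorem NData.card_tgt (h : NData A) : Nat.card {v : H // v ∈ A ∧ v ≠ 1} = 15 := by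
  have := card_ne_one A
  rw [h.card] at this
  omega

theorem NData.card_le (h : NData A) : Nat.card (Sylow 2 H) ≤ 5 := by
  have := Nat.card_le_card_of_injective _ h.zmap_inj
  rw [h.card_src, h.card_tgt] at this
  omega

theorem NData.mem_of_smul (h : NData A) {P Q : Sylow 2 H} (hPQ : P ≠ Q) {x : H} (hP : x ∈ P) (hQ : x • Q = Q) :
    x ∈ A := by
  apply h.inter hPQ hP
  have h1 : x ∈ (P : Subgroup H) ⊓ normalizer (Q : Set H) :=
    ⟨hP, Sylow.smul_eq_iff_mem_normalizer.1 hQ⟩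
  rw [P.2.inf_normalizer_sylow] at h1
  exact h1.2

theorem NData.smul_of_mem (h : NData A) {Q : Sylow 2 H} {x : H} (hx : x ∈ A) : x • Q = Q :=
  Sylow.smul_eq_iff_mem_normalizer.2 (le_normalizer (h.le Q hx))

theorem NData.card_orbit (h : NData A) {P Q : Sylow 2 H} (hPQ : P ≠ Q) :
    (MulAction.orbit (P : Subgroup H) Q).ncard = 4 := by
  rw [← MulAction.index_stabilizer]
  have h1 : MulAction.stabilizer (P : Subgroup H) Q = A.subgroupOf P := by
    ext x
    rw [MulAction.mem_stabilizer_iff, mem_subgroupOf]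
    exact ⟨fun hx => h.mem_of_smul hPQ x.2 hx, fun hx => h.smul_of_mem hx⟩
  rw [h1]
  have h2 := H28.RelSyl.relIndex_mul_card (h.le P)
  have h3 := h.cardP P
  rw [h.card] at h2
  have h4 : (A.subgroupOf (P : Subgroup H)).index = A.relIndex P := rfl
  rw [h4]
  have h5 : Nat.card (P : Subgroup H) = 64 := h3
  omega

theorem smul_self {P : Sylow 2 H} {x : H} (hx : x ∈ P) : x • P = P :=
  Sylow.smul_eq_iff_mem_normalizer.2 (le_normalizer hx)

theorem NData.not_mem_orbit (h : NData A) {P Q : Sylow 2 H} (hPQ : P ≠ Q) :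
    P ∉ MulAction.orbit (P : Subgroup H) Q := by
  rintro ⟨x, hx⟩
  apply hPQ
  have h1 : (x : H) • Q = P := hx
  have h2 : (x : H) • P = P := smul_self x.2
  exact (MulAction.injective (x : H) (h1.trans h2.symm)).symm

theorem NData.card5 (h : NData A) : Nat.card (Sylow 2 H) = 5 := by
  apply le_antisymm h.card_le
  obtain ⟨P, Q, hPQ⟩ := h.ex
  have h1 : (insert P (MulAction.orbit (P : Subgroup H) Q)).ncard = 5 := by
    rw [Set.ncard_insert_of_notMem (h.not_mem_orbit hPQ) (Set.toFinite _), h.card_orbit hPQ]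
  rw [← h1]
  exact Set.ncard_le_card _

theorem NData.cover (h : NData A) {v : H} (hv : v ∈ A) (hv1 : v ≠ 1) :
    ∃ P : Sylow 2 H, v ∈ centralizer (P : Set H) := by
  have hb : Function.Bijective (zmap A) := by
    rw [Nat.bijective_iff_injective_and_card]
    exact ⟨h.zmap_inj, by rw [h.card_src, h.card_tgt, h.card5]⟩
  obtain ⟨⟨P, w⟩, hw⟩ := hb.2 ⟨v, hv, hv1⟩
  refine ⟨P, ?_⟩
  have : w.1 = v := Subtype.ext_iff.1 hw
  rw [← this]
  exact (mem_inf.1 w.2.1).2

/-- the other Sylow subgroups are permuted transitively -/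
theorem NData.trans (h : NData A) {P Q R : Sylow 2 H} (hQ : Q ≠ P) (hR : R ≠ P) :
    ∃ x ∈ P, x • Q = R := by
  by_contra hcon
  push Not at hcon
  have h0 : R ∉ MulAction.orbit (P : Subgroup H) Q := by
    rintro ⟨x, hx⟩
    exact hcon x x.2 hx
  have h1 : (insert R (insert P (MulAction.orbit (P : Subgroup H) Q))).ncard = 6 := by
    rw [Set.ncard_insert_of_notMem, Set.ncard_insert_of_notMem (h.not_mem_orbit hQ.symm) (Set.toFinite _),
      h.card_orbit hQ.symm]
    rw [Set.mem_insert_iff, not_or]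
    exact ⟨hR, h0⟩
  have h2 : (insert R (insert P (MulAction.orbit (P : Subgroup H) Q))).ncard ≤ Nat.card (Sylow 2 H) :=
    Set.ncard_le_card _
  rw [h.card5] at h2
  omega

theorem NData.pow_eq_one (h : NData A) {P : Sylow 2 H} {y : H} (hy : y ∈ P) : y ^ 2 ^ 2 = 1 := by
  have h1 := h.ea _ (h.sq P hy)
  calc y ^ 2 ^ 2 = y * y * (y * y) := by
        show y ^ 4 = _
        simp only [pow_succ, pow_zero, one_mul, mul_assoc]
    _ = 1 := h1

theorem NData.comm_coset (h : NData A) {P : Sylow 2 H} {x y : H} (hx : Odd (orderOf x)) (hy : y ∈ P) (hyA : y ∉ A)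
    (hxy : y * x * y⁻¹ * x⁻¹ ∈ A) : x = 1 := by
  have hn := h.nor
  have hxn : x ∈ normalizer (A : Set H) := by rw [normalizer_eq_top]; trivial
  have hcop : Nat.Coprime (orderOf x) (Nat.card A) := by
    rw [h.card]
    exact Nat.Coprime.pow_right 4 (Nat.coprime_two_right.2 hx)
  obtain ⟨a, ha, c, hc, hcx, hac⟩ := H31.CoprimeCoset.exists_conj A x hxn hcop _ hxy
  have h1 : (a * y) * x * (a * y)⁻¹ = c * x := by
    rw [← hac]; group
  by_cases hc1 : c = 1
  · rw [hc1, one_mul, mul_inv_eq_iff_eq_mul] at h1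
    have h2 : a * y ∈ P := P.mul_mem (h.le P ha) hy
    apply sep2 h.sep hx (y := a * y) ?_ (h.pow_eq_one h2) h1.symm
    intro h3
    apply hyA
    have : y = a⁻¹ := by rw [eq_inv_iff_mul_eq_one, ← mul_one (y * a)]; rw [mul_eq_one_iff_eq_inv] at h3; rw [h3]; group
    rw [this]; exact A.inv_mem ha
  · exact sep2 h.sep hx hc1 (k := 1) (by rw [pow_one, pow_two]; exact h.ea c hc) hcx.symm

theorem NData.ker (h : NData A) {x : H} (hx : ∀ P : Sylow 2 H, x • P = P) : x ∈ A := by
  obtain ⟨P, Q, hPQ⟩ := h.ex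
  have hK : ∀ z : H, z ∈ (MulAction.toPermHom H (Sylow 2 H)).ker ↔ ∀ P : Sylow 2 H, z • P = P := by
    intro z
    rw [MonoidHom.mem_ker]
    exact ⟨fun h P => congrArg (fun σ : Equiv.Perm (Sylow 2 H) => σ P) h, fun h => Equiv.ext h⟩
  set K := (MulAction.toPermHom H (Sylow 2 H)).ker with hKd
  have h2 : IsPGroup 2 K := by
    by_contra hcon
    obtain ⟨z, hz, r, hr, hr2, hzr⟩ := exists_odd hcon
    have hodd : Odd (orderOf z) := by rw [hzr]; exact hr.odd_of_ne_two hr2
    obtain ⟨y, hy, hyA⟩ : ∃ y ∈ P, y ∉ A := by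
      by_contra hcon
      push Not at hcon
      have h1 : (P : Subgroup H) ≤ A := hcon
      have h2 : Nat.card (P : Subgroup H) ≤ Nat.card A := Subgroup.card_le_of_le h1
      have h3 := h.cardP P
      have h4 : Nat.card (P : Subgroup H) = 64 := h3
      rw [h.card] at h2
      omega
    have h1 : y * z * y⁻¹ * z⁻¹ ∈ A := by
      have hzP : z ∈ normalizer (P : Set H) := Sylow.smul_eq_iff_mem_normalizer.1 ((hK z).1 hz P)
      have ha : y * z * y⁻¹ * z⁻¹ ∈ P := by
        have h5 : z * y⁻¹ * z⁻¹ ∈ P := (mem_normalizer_iff.1 hzP y⁻¹).1 (P.inv_mem hy)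
        have h6 : y * z * y⁻¹ * z⁻¹ = y * (z * y⁻¹ * z⁻¹) := by group
        rw [h6]; exact P.mul_mem hy h5
      have hb : y * z * y⁻¹ * z⁻¹ ∈ K := K.mul_mem ((inferInstance : K.Normal).conj_mem z hz y) (K.inv_mem hz)
      exact h.mem_of_smul hPQ ha ((hK _).1 hb Q)
    have h2 := h.comm_coset hodd hy hyA h1
    rw [h2, orderOf_one] at hzr
    exact hr.one_lt.ne hzr
  have hxK : x ∈ K := (hK x).2 hx
  have h3 : ∀ R : Sylow 2 H, x ∈ R := by
    intro R
    have h4 : x ∈ (K : Subgroup H) ⊓ normalizer (R : Set H) :=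
      ⟨hxK, Sylow.smul_eq_iff_mem_normalizer.1 (hx R)⟩
    rw [h2.inf_normalizer_sylow] at h4
    exact h4.2
  exact h.inter hPQ (h3 P) (h3 Q)

/-- enumeration of the Sylow 2-subgroups -/
theorem NData.exists_e (h : NData A) : Nonempty (Sylow 2 H ≃ Fin 5) := by
  have : Fintype (Sylow 2 H) := Fintype.ofFinite _
  have h5 := h.card5
  rw [Nat.card_eq_fintype_card] at h5
  exact ⟨Fintype.equivFinOfCardEq h5⟩

/-- the action on the five Sylow 2-subgroups -/
def act (e : Sylow 2 H ≃ Fin 5) : H →* Equiv.Perm (Fin 5) :=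
  (e.permCongrHom.toMonoidHom).comp (MulAction.toPermHom H (Sylow 2 H))

theorem act_apply (e : Sylow 2 H ≃ Fin 5) (x : H) (i : Fin 5) : act e x i = e (x • e.symm i) := rfl

theorem NData.mem_ker (h : NData A) (e : Sylow 2 H ≃ Fin 5) {x : H} : act e x = 1 ↔ x ∈ A := by
  constructor
  · intro hx
    apply h.ker
    intro P
    have h1 := congrArg (fun σ : Equiv.Perm (Fin 5) => σ (e P)) hx
    have h2 : act e x (e P) = e P := h1
    rw [act_apply, e.symm_apply_apply] at h2
    exact e.injective h2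
  · intro hx
    ext i : 1
    rw [act_apply, h.smul_of_mem hx, e.apply_symm_apply]; rfl

theorem NData.double (h : NData A) (e : Sylow 2 H ≃ Fin 5) {i a b : Fin 5} (ha : a ≠ i) (hb : b ≠ i) (hab : a ≠ b) :
    ∃ y : H, act e y i = i ∧ act e y a = b ∧ act e y b = a ∧ ∀ c, c ≠ i → act e y c ≠ c := by
  obtain ⟨y, hy, hyab⟩ := h.trans (P := e.symm i) (Q := e.symm a) (R := e.symm b)
    (fun h => ha (e.symm.injective h)) (fun h => hb (e.symm.injective h))
  have hyA : y ∉ A := by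
    intro hyA
    rw [h.smul_of_mem hyA] at hyab
    exact hab (e.symm.injective hyab)
  refine ⟨y, ?_, ?_, ?_, ?_⟩
  · rw [act_apply, smul_self hy, e.apply_symm_apply]
  · rw [act_apply, hyab, e.apply_symm_apply]
  · rw [act_apply, ← hyab, smul_smul, h.smul_of_mem (h.sq _ hy), e.apply_symm_apply]
  · intro c hc hcc
    apply hyA
    rw [act_apply] at hcc
    apply h.mem_of_smul (P := e.symm i) (Q := e.symm c) (fun h => hc (e.symm.injective h).symm) hy
    rw [← e.symm_apply_apply (y • e.symm c), hcc]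

theorem NData.card_H (h : NData A) : Nat.card H = 960 := by
  obtain ⟨e⟩ := h.exists_e
  obtain ⟨P, Q, hPQ⟩ := h.ex
  -- Sylow index
  have h5 : 5 ∣ (P : Subgroup H).index := by
    have := P.card_dvd_index
    rwa [h.card5] at this
  have hodd : ¬ 2 ∣ (P : Subgroup H).index := P.not_dvd_index
  have hcard := Subgroup.index_mul_card (P : Subgroup H)
  have h64 : Nat.card (P : Subgroup H) = 64 := h.cardP P
  rw [h64] at hcard
  -- the image
  have hker : (act e).ker = A := by
    ext x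
    rw [MonoidHom.mem_ker, h.mem_ker e]
  have himg : Nat.card (act e).range * 16 = Nat.card H := by
    have := Subgroup.index_mul_card (act e).ker
    rw [Subgroup.index_ker, hker, h.card] at this
    exact this
  have h120 : Nat.card (act e).range ∣ 120 := by
    have := Subgroup.card_subgroup_dvd_card (act e).range
    have h6 : Nat.card (Equiv.Perm (Fin 5)) = 120 := by
      rw [Nat.card_eq_fintype_card, Fintype.card_perm]; rfl
    rwa [h6] at this
  have h3 : 3 ∣ Nat.card (act e).range := by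
    obtain ⟨y, hy1, hy2, hy3, hy4⟩ := h.double e (i := 4) (a := 0) (b := 1) (by decide) (by decide) (by decide)
    obtain ⟨z, hz1, hz2, hz3, hz4⟩ := h.double e (i := 3) (a := 0) (b := 1) (by decide) (by decide) (by decide)
    have e1 := eq_s1 _ hy1 hy2 hy3 hy4
    have e2 := eq_s2 _ hz1 hz2 hz3 hz4
    have e3 : orderOf (act e (y * z)) = 3 := by
      rw [map_mul, e1, e2]
      exact orderOf_eq_prime pow3 ne1
    have e4 : orderOf (⟨act e (y * z), ⟨y * z, rfl⟩⟩ : (act e).range) ∣ Nat.card (act e).range := orderOf_dvd_natCard _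
    rw [← Subgroup.orderOf_coe, e3] at e4
    exact e4
  have h3' : 3 ∣ Nat.card H := himg ▸ Dvd.dvd.mul_right h3 16
  have h60 : Nat.card H ∣ 1920 := by
    rw [← himg]
    exact Nat.mul_dvd_mul_right h120 16
  rw [← hcard] at h60 h3' ⊢
  have h30 : (P : Subgroup H).index ∣ 30 := by
    have : (P : Subgroup H).index * 64 ∣ 30 * 64 := h60
    exact Nat.dvd_of_mul_dvd_mul_right (by norm_num) this
  have h33 : 3 ∣ (P : Subgroup H).index := by
    rcases (Nat.prime_three.dvd_mul).1 h3' with h | h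
    · exact h
    · norm_num at h
  have hle : (P : Subgroup H).index ≤ 30 := Nat.le_of_dvd (by norm_num) h30
  have h15 : 15 ∣ (P : Subgroup H).index := Nat.Coprime.mul_dvd_of_dvd_of_dvd (by norm_num : Nat.Coprime 3 5) h33 h5
  obtain ⟨m, hm⟩ := h15
  have hpos : 0 < (P : Subgroup H).index := Nat.pos_of_ne_zero (by
    intro h0; rw [h0] at h30; norm_num at h30)
  have : m = 1 := by
    have : m ≤ 2 := by omega
    interval_cases m
    · omega
    · rfl
    · exfalso; apply hodd; rw [hm]; norm_num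
  rw [hm, this]

theorem NData.no_fifteen (h : NData A) {X : Subgroup H} (hX : Nat.card X = 15) : False := by
  obtain ⟨e⟩ := h.exists_e
  have hodd : ∀ x ∈ X, Odd (orderOf x) := by
    intro x hx
    have h1 : orderOf (⟨x, hx⟩ : X) ∣ Nat.card X := orderOf_dvd_natCard _
    rw [← Subgroup.orderOf_coe, hX] at h1
    exact Odd.of_dvd_nat (by decide) h1
  have hcomm : IsMulCommutative A := by
    have := (show IsEA A from h.ea)
    exact ⟨⟨fun a b => Subtype.ext (this.comm a.2 b.2)⟩⟩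
  have hn := h.nor
  have hA1 : A ≠ ⊥ := by
    intro h0
    have := h.card
    rw [h0, card_bot] at this
    omega
  have hcyc : IsCyclic X := by
    apply H1.Cyc.isCyclic_of_fpf_subgroup X A hA1 (by rw [normalizer_eq_top]; exact le_top)
    · intro a ha ha1
      rw [eq_bot_iff]
      intro v hv
      rw [mem_inf, mem_centralizer_singleton_iff] at hv
      rw [mem_bot]
      by_contra hv1
      apply ha1
      refine sep2 h.sep (hodd a ha) hv1 (k := 1) (by rw [pow_one, pow_two]; exact h.ea v hv.1) ?_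
      first | exact hv.2 | exact hv.2.symm
    · right
      exact ⟨3, 5, Nat.prime_three, Nat.prime_five, hX⟩
  obtain ⟨x, hx⟩ := hcyc.exists_ofOrder_eq_natCard
  rw [hX, ← Subgroup.orderOf_coe] at hx
  have hinj : ∀ n : ℕ, act e ((x : H) ^ n) = 1 → (x : H) ^ n = 1 := by
    intro n hn1
    rw [h.mem_ker e] at hn1
    by_contra hne
    have h1 := hodd _ (X.pow_mem x.2 n)
    exact hne (sep2 h.sep h1 hne (k := 1) (by rw [pow_one, pow_two]; exact h.ea _ hn1) rfl)
  have h15 : act e (x : H) ^ 15 = 1 := by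
    rw [← map_pow, ← hx, pow_orderOf_eq_one, map_one]
  rcases no15 _ h15 with h1 | h1
  · rw [← map_pow] at h1
    have h2 := orderOf_dvd_of_pow_eq_one (hinj 5 h1)
    rw [hx] at h2
    norm_num at h2
  · rw [← map_pow] at h1
    have h2 := orderOf_dvd_of_pow_eq_one (hinj 3 h1)
    rw [hx] at h2
    norm_num at h2

end

end H18.CITM10
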