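import Cfsg.Agent.Lib.H18.CITM10b
import Cfsg.Agent.Lib.H28.CITM7
import Cfsg.Agent.Lib.H28.CITSep

/-!
Team T-CIT, M10, part 3: points and lines.
-/

set_option autoImplicit false
set_option linter.unusedSectionVars false

namespace H18.CITM10

open Subgroup Lead.CIT H28.Cj H28.RelSyl H28.CITM7 H55.CITM2

universe u

section
variable {G : Type u} [Group G] [Finite G] {V V' S : Subgroup G}

theorem map_cent (N : Subgroup G) {V : Subgroup G} (hV : V ≤ N) (P : Subgroup N) :
    (V.subgroupOf N ⊓ centralizer (P : Set N)).map N.subtype = V ⊓ centralizer ((P.map N.subtype : Subgroup G) : Set G) := by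
  ext x
  constructor
  · rintro ⟨y, hy, rfl⟩
    rw [SetLike.mem_coe, mem_inf, mem_subgroupOf] at hy
    refine ⟨hy.1, ?_⟩
    show (y : G) ∈ centralizer ((P.map N.subtype : Subgroup G) : Set G)
    rw [mem_centralizer_iff]
    rintro _ ⟨z, hz, rfl⟩
    exact congrArg N.subtype (mem_centralizer_iff.1 hy.2 z hz)
  · rintro ⟨hx, hxc⟩
    refine ⟨⟨x, hV hx⟩, ?_, rfl⟩
    rw [SetLike.mem_coe, mem_inf, mem_subgroupOf]
    refine ⟨hx, ?_⟩
    rw [mem_centralizer_iff]
    intro z hz
    apply Subtype.ext
    exact mem_centralizer_iff.1 hxc z ⟨z, hz, rfl⟩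

theorem mem_cent_map {N : Subgroup G} {P : Subgroup N} {x : N} :
    x ∈ centralizer (P : Set N) ↔ (x : G) ∈ centralizer ((P.map N.subtype : Subgroup G) : Set G) := by
  rw [mem_centralizer_iff, mem_centralizer_iff]
  constructor
  · rintro h _ ⟨z, hz, rfl⟩
    exact congrArg N.subtype (h z hz)
  · intro h z hz
    apply Subtype.ext
    exact h z ⟨z, hz, rfl⟩

theorem ndata (hS : Sep G) (h : Nat2 4 V) (cV : centralizer (V : Set G) = V) :
    NData (V.subgroupOf (normalizer (V : Set G))) := by
  set N := normalizer (V : Set G) with hN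
  have hVN : V ≤ N := le_normalizer
  have hsyl : ∀ P : Sylow 2 N, IsSyl 2 ((P : Subgroup N).map N.subtype) N := fun P => isSyl_map P
  have hmem : ∀ (P : Subgroup N) (x : N), x ∈ P → (x : G) ∈ P.map N.subtype := fun P x hx => ⟨x, hx, rfl⟩
  refine
    { sep := ?_, nor := ?_, ea := ?_, card := ?_, cA := ?_, le := ?_, cardP := ?_, cz := ?_, fix := ?_, comm := ?_,
      gen := ?_, ex := ?_ }
  · exact H28.CITSep.sep_subgroup hS N
  · rw [hN]; infer_instance
  · intro x hx
    exact Subtype.ext (h.ea x hx)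
  · rw [card_subgroupOf hVN, h.card]; norm_num
  · ext x
    rw [mem_subgroupOf, mem_cent_map, map_subgroupOf_eq_of_le hVN, cV]
  · intro P x hx
    have h1 := h.cle _ (hsyl P)
    rw [cV] at h1
    obtain ⟨y, hy, hyx⟩ := h1 (mem_subgroupOf.1 hx)
    have : y = x := Subtype.ext hyx
    rw [← this]; exact hy
  · intro P
    have h1 := h.cardP _ (hsyl P)
    rw [card_map_subtype, cV, h.card] at h1
    exact h1
  · intro P
    rw [← card_map_subtype]
    have h1 := map_cent N hVN (P : Subgroup N)
    have h2 := h.cz _ (hsyl P)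
    rw [← h1] at h2
    exact h2
  · intro P x hx hxA v hv hxv
    exact mem_cent_map.2 (h.fix _ (hsyl P) x (hmem _ x hx) (by rw [cV]; exact hxA) v hv (congrArg Subtype.val hxv))
  · intro P x hx v hv
    exact mem_cent_map.2 (h.comm _ (hsyl P) x (hmem _ x hx) v hv)
  · intro P Q hPQ
    have h1 := h.gen _ _ (hsyl P) (hsyl Q) (fun h0 => hPQ (Sylow.ext (map_injective N.subtype_injective h0)))
    rw [← Subgroup.map_sup] at h1
    apply map_injective N.subtype_injective
    rw [h1, ← MonoidHom.range_eq_map, Subgroup.range_subtype]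
  · obtain ⟨P, P', hP, hP', hne⟩ := h.ex
    refine ⟨hP.toSylow, hP'.toSylow, fun h0 => hne ?_⟩
    rw [← hP.map_toSylow, ← hP'.map_toSylow, h0]

theorem card_norm (c : Cf 4 V V' S) : Nat.card (normalizer (V : Set G)) = 960 :=
  (ndata c.hS c.h c.cV).card_H

theorem no15' (c : Cf 4 V V' S) {X : Subgroup G} (hX : X ≤ normalizer (V : Set G)) (h15 : Nat.card X = 15) : False := by
  apply (ndata c.hS c.h c.cV).no_fifteen (X := X.subgroupOf (normalizer (V : Set G)))
  rw [card_subgroupOf hX, h15]

theorem card_syl (c : Cf 4 V V' S) : Nat.card {P : Subgroup G // IsSyl 2 P (normalizer (V : Set G))} = 5 := by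
  rw [← (ndata c.hS c.h c.cV).card5]
  refine Nat.card_congr
    { toFun := fun P => P.2.toSylow
      invFun := fun P => ⟨_, isSyl_map P⟩
      left_inv := fun P => Subtype.ext P.2.map_toSylow
      right_inv := fun P => ?_ }
  apply Sylow.ext
  apply map_injective (normalizer (V : Set G)).subtype_injective
  exact (isSyl_map P).map_toSylow

end

end H18.CITM10
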