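import Cfsg.Agent.Lib.H18.CITM10c

/-!
Team T-CIT, M10, part 4: the geometry.
-/

set_option autoImplicit false
set_option linter.unusedSectionVars false

namespace H18.CITM10

open Subgroup Lead.CIT H28.Cj H28.RelSyl H28.CITM7 H55.CITM2

universe u

section
variable {G : Type u} [Group G] [Finite G] {V V' S : Subgroup G}

/-- points (or lines): conjugates -/
def Pt (V W : Subgroup G) : Prop := ∃ g : G, W = cj g V

/-- incidence -/
def Inc (V V' W M : Subgroup G) : Prop := ∃ g : G, W = cj g V ∧ M = cj g V'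

theorem Inc.symm {W M : Subgroup G} (h : Inc V V' W M) : Inc V' V M W := by
  obtain ⟨g, h1, h2⟩ := h; exact ⟨g, h2, h1⟩

theorem Inc.pt {W M : Subgroup G} (h : Inc V V' W M) : Pt V W := by
  obtain ⟨g, h1, h2⟩ := h; exact ⟨g, h1⟩

theorem Inc.ln {W M : Subgroup G} (h : Inc V V' W M) : Pt V' M := by
  obtain ⟨g, h1, h2⟩ := h; exact ⟨g, h2⟩

theorem Pt.cj {W : Subgroup G} (h : Pt V W) (x : G) : Pt V (cj x W) := by
  obtain ⟨g, rfl⟩ := h; exact ⟨x * g, cj_cj _ _ _⟩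

theorem Inc.cj {W M : Subgroup G} (h : Inc V V' W M) (x : G) : Inc V V' (cj x W) (cj x M) := by
  obtain ⟨g, rfl, rfl⟩ := h; exact ⟨x * g, cj_cj _ _ _, cj_cj _ _ _⟩

theorem pow_cj {m : G} {A B : Subgroup G} (h1 : cj m A = B) (h2 : cj m B = A) :
    ∀ k : ℕ, Odd k → cj (m ^ k) A = B := by
  intro k hk
  obtain ⟨j, rfl⟩ := hk
  induction j with
  | zero => rw [mul_zero, zero_add, pow_one]; exact h1
  | succ j ih =>
    have : m ^ (2 * (j + 1) + 1) = m ^ (2 * j + 1) * (m * m) := by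
      rw [← pow_two, ← pow_add]; ring_nf
    rw [this, ← cj_cj, ← cj_cj, h1, h2, ih]

/-- points and lines are not conjugate -/
theorem ncj (c : Cf 4 V V' S) (st : IsSyl 2 S ⊤) (g : G) : cj g V ≠ V' := by
  intro h
  have h1 : IsSyl 2 (cj g S) (normalizer (V' : Set G)) := by
    refine isSyl_of_card_le c.sT' (isPGroup_cj.2 st.isPGroup) ?_ (by rw [card_cj])
    rw [← h, ← cj_normalizer, cj_le_cj]
    exact c.sT.le
  obtain ⟨n, hn, hn2⟩ := c.sT'.exists_conj_eq h1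
  set m := n⁻¹ * g with hm
  have h2 : cj m S = S := by
    rw [hm, ← cj_cj, hn2, cj_inv_cj]
  have h3 : cj m V = V' := by
    rw [hm, ← cj_cj, h]
    exact mem_normalizer_iff_cj.1 (inv_mem hn)
  have hmS : m ∈ normalizer (S : Set G) := mem_normalizer_iff_cj.2 h2
  have h4 : cj m V' = V := by
    rcases c.symm.move hmS with h5 | h5
    · exact absurd (cj_injective m (h3.trans h5.symm)) c.ne
    · exact h5
  have hodd : ¬ 2 ∣ S.relIndex (normalizer (S : Set G)) := (st.of_le_of_le le_normalizer le_top).not_dvd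
  have h6 : m ^ S.relIndex (normalizer (S : Set G)) ∈ S := by
    have h7 := (S.subgroupOf (normalizer (S : Set G))).pow_index_mem ⟨m, hmS⟩
    exact h7
  have h8 := pow_cj h3 h4 _ (Nat.odd_iff.2 (Nat.two_dvd_ne_zero.1 hodd))
  rw [mem_normalizer_iff_cj.1 (c.sT.le h6)] at h8
  exact c.ne h8

theorem npt (c : Cf 4 V V' S) (st : IsSyl 2 S ⊤) {W : Subgroup G} (h : Pt V W) (h' : Pt V' W) : False := by
  obtain ⟨a, rfl⟩ := h
  obtain ⟨b, hb⟩ := h'
  apply ncj c st (b⁻¹ * a)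
  rw [← cj_cj, hb, cj_inv_cj]

theorem Pt.card (c : Cf 4 V V' S) {W : Subgroup G} (h : Pt V W) : Nat.card W = 16 := by
  obtain ⟨a, rfl⟩ := h
  rw [card_cj, c.h.card]; norm_num

theorem Pt.ea (c : Cf 4 V V' S) {W : Subgroup G} (h : Pt V W) : IsEA W := by
  obtain ⟨a, rfl⟩ := h
  exact IsEA_cj c.h.ea a

theorem Pt.cent (c : Cf 4 V V' S) {W : Subgroup G} (h : Pt V W) : centralizer (W : Set G) = W := by
  obtain ⟨a, rfl⟩ := h
  rw [← cj_centralizer, c.cV]

theorem OZ_nt (c : Cf 4 V V' S) : ∃ z ∈ OZ S, z ≠ 1 := (bot_or_exists_ne_one _).resolve_left c.OZ_ne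

/-- the point, the line and the Sylow subgroup of an involution -/
theorem key0 (c : Cf 4 V V' S) (st : IsSyl 2 S ⊤) {t : G} (ht1 : t ≠ 1) (ht : t * t = 1) :
    ∃ g : G, t ∈ cj g V ∧ t ∈ cj g V' ∧ ∀ x, x * t = t * x → x ∈ cj g S := by
  have base : ∀ z ∈ OZ S, z ≠ 1 → ∀ x, x * z = z * x → x ∈ S := by
    intro z hz hz1 x hx
    have h1 : IsPGroup 2 (centralizer ({z} : Set G)) :=
      Lead.CIT3.sep_centralizer c.hS ((IsEA_OZ S).orderOf hz hz1)
    have h2 : S ≤ centralizer ({z} : Set G) := by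
      intro y hy
      rw [mem_centralizer_singleton_iff]
      exact (hz.2.2 y hy).symm
    have h3 := st.eq_of_le h1 h2 le_top
    rw [← h3, mem_centralizer_singleton_iff]
    exact hx
  -- conjugate into `S`
  have hz : IsPGroup 2 (zpowers t) := by
    apply IsPGroup.of_card (n := 1)
    rw [Nat.card_zpowers, pow_one]
    exact orderOf_eq_prime (by rw [pow_two]; exact ht) ht1
  obtain ⟨a, -, ha⟩ := st.exists_conj_ge hz le_top
  have hta : t ∈ cj a S := ha (mem_zpowers t)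
  rw [mem_cj] at hta
  set t' := a⁻¹ * t * a with ht'
  have ht'1 : t' ≠ 1 := by
    intro h
    apply ht1
    have : t = a * t' * a⁻¹ := by rw [ht']; group
    rw [this, h]; group
  have ht'2 : t' * t' = 1 := by
    have : t' * t' = a⁻¹ * (t * t) * a := by rw [ht']; group
    rw [this, ht]; group
  have htt : t = a * t' * a⁻¹ := by rw [ht']; group
  obtain ⟨z, hzS, hz1⟩ := OZ_nt c
  have hzV : z ∈ V ⊓ V' := by rw [c.inf]; exact hzS
  have fin : ∀ n : G, n * z * n⁻¹ = t' → ∃ g : G, t ∈ cj g V ∧ t ∈ cj g V' ∧ ∀ x, x * t = t * x → x ∈ cj g S := by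
    intro n hn
    have hg : t = (a * n) * z * (a * n)⁻¹ := by rw [htt, ← hn]; group
    refine ⟨a * n, ?_, ?_, ?_⟩
    · rw [hg, conj_mem_cj]; exact hzV.1
    · rw [hg, conj_mem_cj]; exact hzV.2
    · intro x hx
      rw [mem_cj]
      apply base z hzS hz1
      have h1 : z = (a * n)⁻¹ * t * (a * n) := by rw [hg]; group
      calc (a * n)⁻¹ * x * (a * n) * z = (a * n)⁻¹ * (x * t) * (a * n) := by rw [h1]; group
        _ = (a * n)⁻¹ * (t * x) * (a * n) := by rw [hx]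
        _ = z * ((a * n)⁻¹ * x * (a * n)) := by rw [h1]; group
  rcases c.inv t' hta ht'2 with h | h
  · obtain ⟨n, -, hn⟩ := c.trans_V hzS hz1 h ht'1
    exact fin n hn
  · obtain ⟨n, -, hn⟩ := c.symm.trans_V hzS hz1 h ht'1
    exact fin n hn

theorem uniq_aux (c : Cf 4 V V' S) (st : IsSyl 2 S ⊤) {t : G} {W : Subgroup G} {g : G} (hW : Pt V W) (htW : t ∈ W)
    (hg : ∀ x, x * t = t * x → x ∈ cj g S) : W = cj g V := by
  have h1 : W ≤ cj g S := fun x hx => hg x ((hW.ea c).comm hx htW)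
  have h2 : cj g⁻¹ W ≤ S := by
    rw [le_cj_iff] at h1; exact h1
  rcases c.ea_eq h2 (IsEA_cj (hW.ea c) _) (by rw [card_cj, hW.card c]; norm_num) with h3 | h3
  · rw [← h3, cj_cj_inv]
  · exfalso
    exact npt c st (hW.cj g⁻¹) ⟨1, by rw [cj_one, h3]⟩

/-- the point and the line of an involution -/
theorem key (c : Cf 4 V V' S) (st : IsSyl 2 S ⊤) {t : G} (ht1 : t ≠ 1) (ht : t * t = 1) :
    ∃ W M : Subgroup G, Inc V V' W M ∧ t ∈ W ∧ t ∈ M ∧ (∀ W', Pt V W' → t ∈ W' → W' = W) ∧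
      (∀ M', Pt V' M' → t ∈ M' → M' = M) ∧ ∀ x, x * x = 1 → x * t = t * x → x ∈ W ∨ x ∈ M := by
  obtain ⟨g, h1, h2, h3⟩ := key0 c st ht1 ht
  refine ⟨cj g V, cj g V', ⟨g, rfl, rfl⟩, h1, h2, ?_, ?_, ?_⟩
  · intro W' hW' htW'
    exact uniq_aux c st hW' htW' h3
  · intro W' hW' htW'
    exact uniq_aux c.symm st hW' htW' h3
  · intro x hx hxt
    have h4 := h3 x hxt
    rw [mem_cj] at h4
    rw [mem_cj, mem_cj]
    apply c.inv _ h4
    have : g⁻¹ * x * g * (g⁻¹ * x * g) = g⁻¹ * (x * x) * g := by group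
    rw [this, hx]; group

theorem inc_of_mem (c : Cf 4 V V' S) (st : IsSyl 2 S ⊤) {t : G} (ht1 : t ≠ 1) {W M : Subgroup G} (hW : Pt V W)
    (hM : Pt V' M) (htW : t ∈ W) (htM : t ∈ M) : Inc V V' W M := by
  obtain ⟨W', M', h, -, -, h1, h2, -⟩ := key c st ht1 (hW.ea c t htW)
  rw [h1 W hW htW, h2 M hM htM]; exact h

theorem pt_unique (c : Cf 4 V V' S) (st : IsSyl 2 S ⊤) {t : G} (ht1 : t ≠ 1) {W W' : Subgroup G} (hW : Pt V W)
    (hW' : Pt V W') (htW : t ∈ W) (htW' : t ∈ W') : W = W' := by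
  obtain ⟨W₀, M', h, -, -, h1, h2, -⟩ := key c st ht1 (hW.ea c t htW)
  rw [h1 W hW htW, h1 W' hW' htW']

/-- a line through a point containing a given involution of the point -/
theorem pt_cover (c : Cf 4 V V' S) (st : IsSyl 2 S ⊤) {t : G} (ht1 : t ≠ 1) {W : Subgroup G} (hW : Pt V W)
    (htW : t ∈ W) : ∃ M, Inc V V' W M ∧ t ∈ M := by
  obtain ⟨W₀, M', h, -, h0, h1, h2, -⟩ := key c st ht1 (hW.ea c t htW)
  refine ⟨M', ?_, h0⟩
  rw [h1 W hW htW]; exact h

/-- an involution normalising a point lies in a line through it -/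
theorem norm_pt (c : Cf 4 V V' S) (st : IsSyl 2 S ⊤) {t : G} (ht1 : t ≠ 1) (ht : t * t = 1) {W : Subgroup G}
    (hW : Pt V W) (htW : t ∈ normalizer (W : Set G)) : ∃ M, Inc V V' W M ∧ t ∈ M := by
  obtain ⟨g, rfl⟩ := hW
  rw [← cj_normalizer, mem_cj] at htW
  set t' := g⁻¹ * t * g with ht'
  have htt : t = g * t' * g⁻¹ := by rw [ht']; group
  have ht'1 : t' ≠ 1 := by
    intro h
    apply ht1
    rw [htt, h]; group
  have ht'2 : t' * t' = 1 := by
    have : t' * t' = g⁻¹ * (t * t) * g := by rw [ht']; group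
    rw [this, ht]; group
  have hz : IsPGroup 2 (zpowers t') := by
    apply IsPGroup.of_card (n := 1)
    rw [Nat.card_zpowers, pow_one]
    exact orderOf_eq_prime (by rw [pow_two]; exact ht'2) ht'1
  obtain ⟨n, hn, ha⟩ := c.sT.exists_conj_ge hz (by rw [zpowers_le]; exact htW)
  have hta : t' ∈ cj n S := ha (mem_zpowers t')
  rw [mem_cj] at hta
  have h2 : n⁻¹ * t' * n * (n⁻¹ * t' * n) = 1 := by
    have : n⁻¹ * t' * n * (n⁻¹ * t' * n) = n⁻¹ * (t' * t') * n := by group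
    rw [this, ht'2]; group
  rcases c.inv _ hta h2 with h | h
  · rw [← mem_cj, mem_normalizer_iff_cj.1 hn] at h
    apply pt_cover c st ht1 ⟨g, rfl⟩
    rw [mem_cj]; exact h
  · refine ⟨cj (g * n) V', ⟨g * n, ?_, rfl⟩, ?_⟩
    · rw [← cj_cj, mem_normalizer_iff_cj.1 hn]
    · rw [mem_cj]
      have : (g * n)⁻¹ * t * (g * n) = n⁻¹ * t' * n := by rw [ht']; group
      rw [this]; exact h

end

end H18.CITM10
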