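import Cfsg.Agent.Lib.H18.CITM10d

/-!
Team T-CIT, M10, part 5: two points are on exactly one line.
-/

set_option autoImplicit false
set_option linter.unusedSectionVars false

namespace H18.CITM10

open Subgroup Lead.CIT H28.Cj H28.RelSyl H28.CITM7 H55.CITM2

universe u

section
variable {G : Type u} [Group G] [Finite G] {V V' S : Subgroup G}

theorem Inc.le_norm (c : Cf 4 V V' S) {W M : Subgroup G} (h : Inc V V' W M) : M ≤ normalizer (W : Set G) := by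
  obtain ⟨g, rfl, rfl⟩ := h
  rw [← cj_normalizer, cj_le_cj]
  exact c.symm.VT.trans c.sT.le

theorem Inc.card_inf (c : Cf 4 V V' S) {W M : Subgroup G} (h : Inc V V' W M) :
    Nat.card (W ⊓ M : Subgroup G) = 4 := by
  obtain ⟨g, rfl, rfl⟩ := h
  rw [← cj_inf, card_cj, c.inf, c.card_OZ]

/-- an abelian group of order 16 is the product of two subgroups of order 4 meeting trivially -/
theorem mul_cover {W A B : Subgroup G} (hA : A ≤ W) (hB : B ≤ W) (cW : Nat.card W = 16) (cA : Nat.card A = 4)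
    (cB : Nat.card B = 4) (hAB : A ⊓ B = ⊥) {w : G} (hw : w ∈ W) : ∃ a ∈ A, ∃ b ∈ B, w = a * b := by
  let f : A × B → W := fun p => ⟨p.1 * p.2, W.mul_mem (hA p.1.2) (hB p.2.2)⟩
  have hf : Function.Injective f := by
    rintro ⟨a, b⟩ ⟨a', b'⟩ h
    have h1 : (a : G) * b = a' * b' := congrArg Subtype.val h
    have h2 : (a' : G)⁻¹ * a = b' * (b : G)⁻¹ := by
      rw [inv_mul_eq_iff_eq_mul, ← mul_assoc, ← h1]; group
    have h3 : (a' : G)⁻¹ * a ∈ A ⊓ B := ⟨A.mul_mem (A.inv_mem a'.2) a.2, by rw [h2]; exact B.mul_mem b'.2 (B.inv_mem b.2)⟩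
    rw [hAB, mem_bot, inv_mul_eq_one] at h3
    rw [← h3, inv_mul_cancel] at h2
    have h4 := (mul_inv_eq_one.1 h2.symm)
    exact Prod.ext (Subtype.ext h3.symm) (Subtype.ext h4.symm)
  have hb : Function.Bijective f := by
    rw [Nat.bijective_iff_injective_and_card]
    refine ⟨hf, ?_⟩
    rw [Nat.card_prod, cA, cB, cW]
  obtain ⟨⟨a, b⟩, hab⟩ := hb.2 ⟨w, hw⟩
  exact ⟨a, a.2, b, b.2, (congrArg Subtype.val hab).symm⟩

theorem le_norm_two (c : Cf 4 V V' S) (st : IsSyl 2 S ⊤) {W₁ W₂ M₁ M₂ : Subgroup G} (hM : M₁ ≠ M₂)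
    (h11 : Inc V V' W₁ M₁) (h12 : Inc V V' W₁ M₂) (h21 : Inc V V' W₂ M₁) (h22 : Inc V V' W₂ M₂) :
    W₁ ≤ normalizer (W₂ : Set G) := by
  intro w hw
  have hinf : (W₁ ⊓ M₁) ⊓ (W₁ ⊓ M₂) = ⊥ := by
    rw [eq_bot_iff]
    intro x hx
    rw [mem_bot]
    by_contra hx1
    exact hM (pt_unique c.symm st hx1 h11.ln h12.ln hx.1.2 hx.2.2)
  obtain ⟨a, ha, b, hb, rfl⟩ := mul_cover inf_le_left inf_le_left (h11.pt.card c) (h11.card_inf c) (h12.card_inf c)
    hinf hw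
  exact mul_mem (h21.le_norm c ha.2) (h22.le_norm c hb.2)

/-- two points are on at most one line -/
theorem one_line (c : Cf 4 V V' S) (st : IsSyl 2 S ⊤) {W₁ W₂ M₁ M₂ : Subgroup G} (hW : W₁ ≠ W₂)
    (h11 : Inc V V' W₁ M₁) (h12 : Inc V V' W₁ M₂) (h21 : Inc V V' W₂ M₁) (h22 : Inc V V' W₂ M₂) : M₁ = M₂ := by
  by_contra hM
  have h1 := le_norm_two c st hM h11 h12 h21 h22
  have h2 := le_norm_two c st hM h21 h22 h11 h12
  have h3 : W₂ ≤ centralizer (W₁ : Set G) := by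
    intro w hw
    rw [mem_centralizer_iff]
    intro v hv
    by_contra hne
    have h4 : v * w * v⁻¹ * w⁻¹ ∈ W₂ := W₂.mul_mem ((mem_normalizer_iff.1 (h1 hv) w).1 hw) (W₂.inv_mem hw)
    have h5 : v * w * v⁻¹ * w⁻¹ ∈ W₁ := by
      have : v * w * v⁻¹ * w⁻¹ = v * (w * v⁻¹ * w⁻¹) := by group
      rw [this]
      exact W₁.mul_mem hv ((mem_normalizer_iff.1 (h2 hw) v⁻¹).1 (W₁.inv_mem hv))
    have h6 : v * w * v⁻¹ * w⁻¹ ≠ 1 := by
      intro h0
      apply hne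
      rw [mul_inv_eq_one, mul_inv_eq_iff_eq_mul] at h0
      exact h0
    exact hW (pt_unique c st h6 h11.pt h21.pt h5 h4)
  rw [h11.pt.cent c] at h3
  exact hW (Subgroup.eq_of_le_of_card_ge h3 (by rw [h11.pt.card c, h21.pt.card c])).symm

/-- collinear points -/
def Coll (V V' W₁ W₂ : Subgroup G) : Prop := ∃ M, Inc V V' W₁ M ∧ Inc V V' W₂ M

theorem coll_of_norm (c : Cf 4 V V' S) (st : IsSyl 2 S ⊤) {t : G} (ht1 : t ≠ 1) (ht : t * t = 1)
    {W₁ W₂ : Subgroup G} (h₁ : Pt V W₁) (h₂ : Pt V W₂) (n₁ : t ∈ normalizer (W₁ : Set G))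
    (n₂ : t ∈ normalizer (W₂ : Set G)) : Coll V V' W₁ W₂ := by
  obtain ⟨M₁, hM₁, t₁⟩ := norm_pt c st ht1 ht h₁ n₁
  obtain ⟨M₂, hM₂, t₂⟩ := norm_pt c st ht1 ht h₂ n₂
  have : M₁ = M₂ := pt_unique c.symm st ht1 hM₁.ln hM₂.ln t₁ t₂
  subst this
  exact ⟨M₁, hM₁, hM₂⟩

theorem inv_cpow {z r : G} (hz : z * z = 1) (hr : z * r * z⁻¹ = r⁻¹) (k : ℕ) : z * r ^ k * z⁻¹ = (r ^ k)⁻¹ := by
  rw [← _root_.conj_pow, hr, inv_pow]

theorem odd_of_not_coll (c : Cf 4 V V' S) (st : IsSyl 2 S ⊤) {W₁ W₂ : Subgroup G} (h₁ : Pt V W₁) (h₂ : Pt V W₂)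
    (hnc : ¬ Coll V V' W₁ W₂) {z w : G} (hz : z ∈ W₁) (hz1 : z ≠ 1) (hw : w ∈ W₂) (hw1 : w ≠ 1) :
    Odd (orderOf (z * w)) := by
  by_contra hodd
  rw [Nat.not_odd_iff_even] at hodd
  obtain ⟨k, hk⟩ := hodd
  have hzz := h₁.ea c z hz
  have hww := h₂.ea c w hw
  have hzi : z⁻¹ = z := inv_eq_of_mul_eq_one_left hzz
  have hwi : w⁻¹ = w := inv_eq_of_mul_eq_one_left hww
  set r := z * w with hr
  have hpos : 0 < orderOf r := orderOf_pos r
  have hk0 : 0 < k := by omega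
  set t := r ^ k with ht
  have ht1 : t ≠ 1 := by
    intro h0
    have := orderOf_dvd_of_pow_eq_one h0
    have := Nat.le_of_dvd hk0 this
    omega
  have htt : t * t = 1 := by
    rw [ht, ← pow_add, ← hk, pow_orderOf_eq_one]
  have hti : t⁻¹ = t := inv_eq_of_mul_eq_one_left htt
  have hzr : z * r * z⁻¹ = r⁻¹ := by
    rw [hr, mul_inv_rev, hzi, hwi]
    calc z * (z * w) * z = (z * z) * w * z := by group
      _ = w * z := by rw [hzz, one_mul]
  have hzt : z * t = t * z := by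
    have h1 := inv_cpow hzz hzr k
    rw [← ht, hti, mul_inv_eq_iff_eq_mul] at h1
    exact h1
  have hwr : w * r * w⁻¹ = r⁻¹ := by
    rw [hr, mul_inv_rev, hzi, hwi]
    calc w * (z * w) * w = w * z * (w * w) := by group
      _ = w * z := by rw [hww, mul_one]
  have hwt : w * t = t * w := by
    have h1 := inv_cpow hww hwr k
    rw [← ht, hti, mul_inv_eq_iff_eq_mul] at h1
    exact h1
  obtain ⟨W, M, hI, -, -, -, -, hall⟩ := key c st ht1 htt
  have step : ∀ {U : Subgroup G} {x : G}, Pt V U → x ∈ U → x ≠ 1 → x * t = t * x → Inc V V' U M := by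
    intro U x hU hx hx1 hxt
    rcases hall x (hU.ea c x hx) hxt with h | h
    · rw [pt_unique c st hx1 hU hI.pt hx h]; exact hI
    · exact inc_of_mem c st hx1 hU hI.ln hx h
  exact hnc ⟨M, step h₁ hz hz1 hzt, step h₂ hw hw1 hwt⟩

theorem exists_swap {z w : G} (hzz : z * z = 1) (hww : w * w = 1) (hodd : Odd (orderOf (z * w))) :
    ∃ x : G, x * x = 1 ∧ x * z * x⁻¹ = w := by
  obtain ⟨k, hk⟩ := hodd
  have hzi : z⁻¹ = z := inv_eq_of_mul_eq_one_left hzz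
  have hwi : w⁻¹ = w := inv_eq_of_mul_eq_one_left hww
  set r := z * w with hr
  have hzr : z * r * z⁻¹ = r⁻¹ := by
    rw [hr, mul_inv_rev, hzi, hwi]
    calc z * (z * w) * z = (z * z) * w * z := by group
      _ = w * z := by rw [hzz, one_mul]
  have h1 := inv_cpow hzz hzr k
  have h2 : z * r ^ k = (r ^ k)⁻¹ * z := by rw [← h1]; group
  refine ⟨r ^ k * z, ?_, ?_⟩
  · calc r ^ k * z * (r ^ k * z) = r ^ k * (z * r ^ k) * z := by group
      _ = z * z := by rw [h2]; group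
      _ = 1 := hzz
  · have h3 : r ^ k * z * z * (r ^ k * z)⁻¹ = r ^ k * (z * z) * z⁻¹ * (r ^ k)⁻¹ := by group
    rw [h3, hzz, mul_one, hzi]
    have h4 : r ^ k * z = z * (r ^ k)⁻¹ := by
      have : z * (z * r ^ k) * (r ^ k)⁻¹ = z * ((r ^ k)⁻¹ * z) * (r ^ k)⁻¹ := by rw [h2]
      have h5 : z * (z * r ^ k) * (r ^ k)⁻¹ = z * z := by group
      have h6 : z⁻¹ * (z * ((r ^ k)⁻¹ * z) * (r ^ k)⁻¹) = (r ^ k)⁻¹ * z * (r ^ k)⁻¹ := by group
      rw [← this, h5, hzz, mul_one, hzi] at h6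
      calc r ^ k * z = r ^ k * ((r ^ k)⁻¹ * z * (r ^ k)⁻¹) := by rw [← h6]
        _ = z * (r ^ k)⁻¹ := by group
    rw [h4, mul_assoc, ← mul_inv_rev, ← pow_add]
    have h7 : r ^ (k + k) * r = 1 := by
      rw [← pow_succ, ← two_mul, ← hk, pow_orderOf_eq_one]
    have h8 : (r ^ (k + k))⁻¹ = r := inv_eq_of_mul_eq_one_right h7
    rw [h8, hr, ← mul_assoc, hzz, one_mul]

end

end H18.CITM10
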