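import Cfsg.Agent.Lib.H18.CITM10e

/-!
Team T-CIT, M10, part 6: counting; 21 points.
-/

set_option autoImplicit false
set_option linter.unusedSectionVars false

namespace H18.CITM10

open Subgroup Lead.CIT H28.Cj H28.RelSyl H28.CITM7 H55.CITM2

universe u

section
variable {G : Type u} [Group G] [Finite G] {V V' S : Subgroup G}

theorem card_sub_one {α : Type*} [Finite α] {p : α → Prop} {a : α} (ha : p a) :
    Nat.card {x // p x ∧ x ≠ a} + 1 = Nat.card {x // p x} := by
  have h1 : Nat.card {x // p x ∧ x ≠ a} = ({x | p x} \ {a}).ncard := by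
    rw [← Nat.card_coe_set_eq]; rfl
  have h2 : Nat.card {x // p x} = {x | p x}.ncard := by
    rw [← Nat.card_coe_set_eq]; rfl
  have h3 : a ∈ {x | p x} := ha
  rw [h1, h2, Set.ncard_diff_singleton_add_one h3 (Set.toFinite _)]

theorem pt_card_norm (c : Cf 4 V V' S) {W : Subgroup G} (h : Pt V W) : Nat.card (normalizer (W : Set G)) = 960 := by
  obtain ⟨g, rfl⟩ := h
  rw [← cj_normalizer, card_cj]
  exact CITM10.card_norm c

theorem pt_no15 (c : Cf 4 V V' S) {W : Subgroup G} (h : Pt V W) {X : Subgroup G} (hX : X ≤ normalizer (W : Set G))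
    (h15 : Nat.card X = 15) : False := by
  obtain ⟨g, rfl⟩ := h
  apply no15' c (X := H28.Cj.cj g⁻¹ X)
  · rw [← le_cj_iff, cj_normalizer]; exact hX
  · rw [card_cj, h15]

theorem coll (c : Cf 4 V V' S) (st : IsSyl 2 S ⊤) {W₁ W₂ : Subgroup G} (h₁ : Pt V W₁) (h₂ : Pt V W₂)
    (hne : W₁ ≠ W₂) : Coll V V' W₁ W₂ := by
  by_contra hnc
  set X : Subgroup G := normalizer (W₁ : Set G) ⊓ normalizer (W₂ : Set G) with hX
  have hodd : ¬ 2 ∣ Nat.card X := by
    intro h2
    have : Fact (Nat.Prime 2) := ⟨Nat.prime_two⟩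
    obtain ⟨t, ht⟩ := exists_prime_orderOf_dvd_card' 2 h2
    rw [← Subgroup.orderOf_coe] at ht
    have ht1 : (t : G) ≠ 1 := by
      intro h0
      rw [h0, orderOf_one] at ht
      omega
    have ht2 : (t : G) * t = 1 := by
      rw [← pow_two, ← ht, pow_orderOf_eq_one]
    exact hnc (coll_of_norm c st ht1 ht2 h₁ h₂ t.2.1 t.2.2)
  -- swapping involutions
  let C := {x : G // x * x = 1 ∧ cj x W₁ = W₂}
  have hsw : ∀ x : C, cj x.1 W₂ = W₁ := by
    intro x
    have h1 : x.1⁻¹ = x.1 := inv_eq_of_mul_eq_one_left x.2.1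
    have h2 := x.2.2
    rw [cj_eq_iff, h1] at h2
    exact h2.symm
  let A₁ := {z : G // z ∈ W₁ ∧ z ≠ 1}
  let A₂ := {z : G // z ∈ W₂ ∧ z ≠ 1}
  have c1 : Nat.card A₁ = 15 := by
    have := card_ne_one W₁
    rw [h₁.card c] at this
    show Nat.card {z : G // z ∈ W₁ ∧ z ≠ 1} = 15
    omega
  have c2 : Nat.card A₂ = 15 := by
    have := card_ne_one W₂
    rw [h₂.card c] at this
    show Nat.card {z : G // z ∈ W₂ ∧ z ≠ 1} = 15
    omega
  let f : C × A₁ → A₁ × A₂ := fun p => (p.2, ⟨p.1.1 * p.2.1 * p.1.1⁻¹, by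
    constructor
    · have h0 : p.1.1 * p.2.1 * p.1.1⁻¹ ∈ cj p.1.1 W₁ := conj_mem_cj.2 p.2.2.1
      rwa [p.1.2.2] at h0
    · intro h0
      exact p.2.2.2 (by simpa using h0)⟩)
  have hf : Function.Surjective f := by
    rintro ⟨z, w⟩
    have ho := odd_of_not_coll c st h₁ h₂ hnc z.2.1 z.2.2 w.2.1 w.2.2
    obtain ⟨x, hx1, hx2⟩ := exists_swap (h₁.ea c z z.2.1) (h₂.ea c w w.2.1) ho
    have hxW : cj x W₁ = W₂ := by
      apply pt_unique c st w.2.2 (h₁.cj x) h₂ _ w.2.1
      rw [← hx2, conj_mem_cj]; exact z.2.1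
    refine ⟨(⟨x, hx1, hxW⟩, z), ?_⟩
    exact Prod.ext rfl (Subtype.ext hx2)
  have hC : 15 ≤ Nat.card C := by
    have := Nat.card_le_card_of_surjective f hf
    rw [Nat.card_prod, Nat.card_prod, c1, c2] at this
    omega
  have hCX : Nat.card C ≤ Nat.card X := by
    have hne : Nonempty C := by
      rw [← Finite.card_pos_iff]; omega
    obtain ⟨x₀⟩ := hne
    let g : C → X := fun x => ⟨x₀.1 * x.1, by
      rw [hX, mem_inf, mem_normalizer_iff_cj, mem_normalizer_iff_cj, ← cj_cj, ← cj_cj, hsw, x₀.2.2, x.2.2, hsw]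
      exact ⟨rfl, rfl⟩⟩
    apply Nat.card_le_card_of_injective g
    intro x y hxy
    exact Subtype.ext (mul_left_cancel (congrArg Subtype.val hxy))
  have hd : Nat.card X ∣ 960 := by
    rw [← pt_card_norm c h₁]
    exact Subgroup.card_dvd_of_le inf_le_left
  have hcop : Nat.Coprime (Nat.card X) 64 := by
    have : Nat.Coprime 2 (Nat.card X) := (Nat.Prime.coprime_iff_not_dvd Nat.prime_two).2 hodd
    have h64 : (64 : ℕ) = 2 ^ 6 := by norm_num
    rw [h64]
    exact this.symm.pow_right 6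
  have hd15 : Nat.card X ∣ 15 := by
    apply hcop.dvd_of_dvd_mul_left
    exact hd
  have : Nat.card X = 15 := le_antisymm (Nat.le_of_dvd (by norm_num) hd15) (hC.trans hCX)
  exact pt_no15 c h₁ inf_le_left this

theorem card_lines_base (c : Cf 4 V V' S) (st : IsSyl 2 S ⊤) : Nat.card {M : Subgroup G // Inc V V' V M} = 5 := by
  rw [← card_syl c]
  have hsup : ∀ {g : G}, V = cj g V → V ⊔ cj g V' = cj g S := by
    intro g hg
    rw [c.sup, cj_sup, ← hg]
  let F : {M : Subgroup G // Inc V V' V M} → {P : Subgroup G // IsSyl 2 P (normalizer (V : Set G))} :=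
    fun M => ⟨V ⊔ M.1, by
      obtain ⟨g, h1, h2⟩ := M.2
      rw [h2, hsup h1]
      exact c.sT.cj_of_mem (mem_normalizer_iff_cj.2 h1.symm)⟩
  have hF : Function.Bijective F := by
    constructor
    · intro M M' h
      have h0 : V ⊔ M.1 = V ⊔ M'.1 := congrArg Subtype.val h
      obtain ⟨g, h1, h2⟩ := M.2
      have h3 : M'.1 ≤ cj g S := by
        rw [← hsup h1, ← h2, h0]; exact le_sup_right
      have h4 : cj g⁻¹ M'.1 ≤ S := le_cj_iff.1 h3
      rcases c.ea_eq h4 (IsEA_cj (M'.2.ln.ea c.symm) _) (by rw [card_cj, M'.2.ln.card c.symm]; norm_num) with h5 | h5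
      · exfalso
        exact npt c st ⟨1, by rw [cj_one, h5]⟩ (M'.2.ln.cj g⁻¹)
      · have h6 := cj_eq_iff.1 h5
        rw [inv_inv] at h6
        exact Subtype.ext (h2.trans h6.symm)
    · intro P
      obtain ⟨n, hn, hn2⟩ := c.sT.exists_conj_eq P.2
      have h1 : V = cj n V := (mem_normalizer_iff_cj.1 hn).symm
      refine ⟨⟨cj n V', n, h1, rfl⟩, ?_⟩
      apply Subtype.ext
      show V ⊔ cj n V' = P.1
      rw [hsup h1, hn2]
  exact Nat.card_congr (Equiv.ofBijective F hF)

/-- five lines through every point -/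
theorem card_lines (c : Cf 4 V V' S) (st : IsSyl 2 S ⊤) {W : Subgroup G} (hW : Pt V W) :
    Nat.card {M : Subgroup G // Inc V V' W M} = 5 := by
  rw [← card_lines_base c st]
  obtain ⟨g, rfl⟩ := hW
  refine Nat.card_congr
    { toFun := fun M => ⟨cj g⁻¹ M.1, ?_⟩
      invFun := fun M => ⟨cj g M.1, M.2.cj g⟩
      left_inv := fun M => Subtype.ext (cj_cj_inv g M.1)
      right_inv := fun M => Subtype.ext (cj_inv_cj g M.1) }
  have := M.2.cj g⁻¹
  rwa [cj_inv_cj] at this

/-- five points on every line -/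
theorem card_points (c : Cf 4 V V' S) (st : IsSyl 2 S ⊤) {M : Subgroup G} (hM : Pt V' M) :
    Nat.card {W : Subgroup G // Inc V V' W M} = 5 := by
  rw [← card_lines c.symm st hM]
  exact Nat.card_congr (Equiv.subtypeEquivRight fun W => ⟨Inc.symm, Inc.symm⟩)

theorem inc_base : Inc V V' V V' := ⟨1, (cj_one _).symm, (cj_one _).symm⟩

theorem card_pt (c : Cf 4 V V' S) (st : IsSyl 2 S ⊤) : Nat.card {W : Subgroup G // Pt V W} = 21 := by
  classical
  have hV : Pt V V := ⟨1, (cj_one _).symm⟩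
  rw [← card_sub_one hV]
  let T : {M : Subgroup G // Inc V V' V M} → Type u := fun M => {W : Subgroup G // Inc V V' W M.1 ∧ W ≠ V}
  have hT : ∀ M, Nat.card (T M) = 4 := by
    intro M
    have h1 := card_sub_one (p := fun W : Subgroup G => Inc V V' W M.1) (a := V) M.2
    rw [card_points c st M.2.ln] at h1
    show Nat.card {W : Subgroup G // Inc V V' W M.1 ∧ W ≠ V} = 4
    omega
  let f : (Σ M, T M) → {W : Subgroup G // Pt V W ∧ W ≠ V} := fun s => ⟨s.2.1, s.2.2.1.pt, s.2.2.2⟩
  have hf : Function.Bijective f := by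
    constructor
    · rintro ⟨M, W⟩ ⟨M', W'⟩ h
      have h1 : W.1 = W'.1 := congrArg Subtype.val h
      have h2 : M = M' := by
        apply Subtype.ext
        apply one_line c st (W₁ := W.1) (W₂ := V) W.2.2 W.2.1 _ M.2 M'.2
        rw [h1]; exact W'.2.1
      subst h2
      have : W = W' := Subtype.ext h1
      rw [this]
    · intro W
      obtain ⟨M, hM1, hM2⟩ := coll c st hV W.2.1 (Ne.symm W.2.2)
      exact ⟨⟨⟨M, hM1⟩, ⟨W.1, hM2, W.2.2⟩⟩, rfl⟩
  rw [← Nat.card_congr (Equiv.ofBijective f hf)]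
  have : Fintype {M : Subgroup G // Inc V V' V M} := Fintype.ofFinite _
  rw [Nat.card_sigma, Finset.sum_congr rfl (fun M _ => hT M), Finset.sum_const, Finset.card_univ,
    ← Nat.card_eq_fintype_card, card_lines_base c st]
  norm_num

theorem card_G (c : Cf 4 V V' S) (st : IsSyl 2 S ⊤) : Nat.card G = 20160 := by
  let f : G ⧸ normalizer (V : Set G) → {W : Subgroup G // Pt V W} :=
    Quotient.lift (fun g => ⟨cj g V, g, rfl⟩) (by
      intro a b hab
      have h1 : a⁻¹ * b ∈ normalizer (V : Set G) := QuotientGroup.leftRel_apply.1 hab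
      rw [mem_normalizer_iff_cj] at h1
      apply Subtype.ext
      show cj a V = cj b V
      rw [← cj_cj] at h1
      rw [← cj_cj_inv a (cj b V), h1])
  have hf : Function.Bijective f := by
    constructor
    · intro a b
      induction a using QuotientGroup.induction_on with | H a =>
      induction b using QuotientGroup.induction_on with | H b =>
      intro h
      have h1 : cj a V = cj b V := congrArg Subtype.val h
      rw [QuotientGroup.eq, mem_normalizer_iff_cj, ← cj_cj, ← h1, cj_inv_cj]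
    · rintro ⟨_, g, rfl⟩
      exact ⟨(g : G ⧸ normalizer (V : Set G)), rfl⟩
  have h1 := Nat.card_congr (Equiv.ofBijective f hf)
  rw [card_pt c st] at h1
  have h2 := Subgroup.index_mul_card (normalizer (V : Set G))
  rw [CITM10.card_norm c] at h2
  have h3 : (normalizer (V : Set G)).index = 21 := h1
  rw [← h2, h3]

end

end H18.CITM10
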