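import Mathlib
import Cfsg.Agent.Lib.H28.CITM5
import Cfsg.Agent.Lib.H83.CITM4
import Cfsg.Agent.Lib.Lead.CITM3

/-!
A `Sep` group with a normal simple subgroup whose Sylow `2`-subgroups are TI equals that subgroup.
-/
set_option autoImplicit false

namespace H18.SepTop

open Subgroup Lead.CIT H28.Cj H28.RelSyl

universe u

theorem ti_top {N : Type u} [Group N] [Finite N] (hS : Sep N) (L : Subgroup N) [L.Normal]
    [IsSimpleGroup L] (hna : ∃ a b : L, a * b ≠ b * a) (hev : 2 ∣ Nat.card L)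
    (hTI : ∀ P Q : Sylow 2 L, P ≠ Q → (P : Subgroup L) ⊓ Q = ⊥) : L = ⊤ := by
  classical
  haveI : Fact (Nat.Prime 2) := ⟨Nat.prime_two⟩
  have hTN := H28.CITM5.ti_overgroup hS L hna hev hTI
  have hSL : Sep L := H28.CITSep.sep_subgroup hS L
  obtain ⟨S₁, S₂, hneL⟩ := H83.CITM4.exists_two_sylow hna hev
  have hneN : ∃ P Q : Sylow 2 N, P ≠ Q := by
    obtain ⟨P, hP⟩ := Sylow.exists_comap_subtype_eq S₁
    obtain ⟨Q, hQ⟩ := Sylow.exists_comap_subtype_eq S₂
    refine ⟨P, Q, ?_⟩
    rintro rfl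
    exact hneL (Sylow.ext (hP.symm.trans hQ))
  -- the map `P ↦ P ∩ L`
  have hsyl : ∀ P : Sylow 2 N, IsSyl 2 ((P : Subgroup N) ⊓ L) L := fun P =>
    (isSyl_top P).inf_normal (by rw [(normalizer_eq_top_iff (H := L)).2 inferInstance]) le_top
  let φ : Sylow 2 N → Sylow 2 L := fun P => (hsyl P).toSylow
  have hφ : ∀ P, ((φ P : Sylow 2 L) : Subgroup L).map L.subtype = (P : Subgroup N) ⊓ L := fun P =>
    (hsyl P).map_toSylow
  have hφi : Function.Injective φ := by
    intro P Q hPQ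
    by_contra hne
    have h1 := hTN P Q hne
    have h2 : (P : Subgroup N) ⊓ L = (Q : Subgroup N) ⊓ L := by rw [← hφ, ← hφ, hPQ]
    have h3 : (P : Subgroup N) ⊓ L ≤ ⊥ := by
      rw [← h1]
      exact le_inf inf_le_left (h2 ▸ inf_le_left)
    exact (hsyl P).ne_bot hev (le_bot_iff.1 h3)
  have hcard : Nat.card (Sylow 2 N) ≤ Nat.card (Sylow 2 L) := Nat.card_le_card_of_injective φ hφi
  have T : Sylow 2 N := hneN.choose
  obtain ⟨q, c, hq, hc, hOT, -, hnT, hsT, hconjT⟩ := Lead.CIT3.ti_struct hS hTN hneN T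
  obtain ⟨q', c', hq', hc', hOS, hinvS, hnS, hsS, hconjS⟩ :=
    Lead.CIT3.ti_struct hSL hTI ⟨S₁, S₂, hneL⟩ (φ T)
  have hsimp := H83.CITM4.ti_simple hna hSL hev hTI (φ T)
  -- `S = T ∩ L` has order at most that of `T`
  have hST : Nat.card (φ T : Subgroup L) ≤ Nat.card (T : Subgroup N) := by
    rw [← card_map_subtype (φ T : Subgroup L), hφ]
    exact card_le_of_le inf_le_left
  have hTS : Nat.card (T : Subgroup N) ≤ Nat.card (φ T : Subgroup L) := by
    have h1 : 1 + c * Nat.card (T : Subgroup N) ≤ 1 + Nat.card (φ T : Subgroup L) := by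
      rw [← hsT, ← hsimp]; exact hcard
    nlinarith [Nat.zero_le (Nat.card (T : Subgroup N))]
  have hEq : Nat.card (T : Subgroup N) = Nat.card (φ T : Subgroup L) := le_antisymm hTS hST
  -- all involutions of `N` are in `L`
  obtain ⟨t, ht⟩ := exists_prime_orderOf_dvd_card' (G := L) 2 hev
  have hinvL : ∀ x : N, orderOf x = 2 → x ∈ L := by
    intro x hx
    obtain ⟨g, hg⟩ := isConj_iff.1 (hconjT (t : N) x (by rw [Subgroup.orderOf_coe]; exact ht) hx)
    rw [← hg]
    exact Normal.conj_mem inferInstance _ t.2 g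
  have hle : q ≤ q' := by
    rw [← hOT, ← hOS]
    have hmem : ∀ x : OZ (T : Subgroup N), (x : N) ∈ L := by
      rintro ⟨x, hxT, hx2, -⟩
      rcases eq_or_ne x 1 with h | h
      · show x ∈ L
        exact h ▸ L.one_mem
      · exact hinvL x (orderOf_eq_prime (by rw [pow_two]; exact hx2) h)
    refine Nat.card_le_card_of_injective
      (fun x : OZ (T : Subgroup N) => (⟨⟨(x : N), hmem x⟩, hinvS _ ?_ ?_⟩ : OZ (φ T : Subgroup L))) ?_
    · have : (x : N) ∈ ((φ T : Sylow 2 L) : Subgroup L).map L.subtype := by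
        rw [hφ]; exact ⟨x.2.1, hmem x⟩
      obtain ⟨y, hy, hyx⟩ := this
      have : y = ⟨(x : N), hmem x⟩ := Subtype.ext hyx
      rw [← this]; exact hy
    · exact Subtype.ext x.2.2.1
    · intro x y hxy
      have := congrArg (fun z : OZ (φ T : Subgroup L) => ((z : L) : N)) hxy
      exact Subtype.ext this
  -- counting
  have hcN : Nat.card N = (1 + c * Nat.card (T : Subgroup N)) * (Nat.card (T : Subgroup N) * (q - 1)) := by
    rw [← hsT, ← hnT, Sylow.card_eq_index_normalizer T, mul_comm]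
    exact (card_mul_index _).symm
  have hcL : Nat.card L = (1 + Nat.card (φ T : Subgroup L)) * (Nat.card (φ T : Subgroup L) * (q' - 1)) := by
    rw [← hsimp, ← hnS, Sylow.card_eq_index_normalizer (φ T), mul_comm]
    exact (card_mul_index _).symm
  have hsN : 1 + c * Nat.card (T : Subgroup N) ≤ 1 + Nat.card (φ T : Subgroup L) := by
    rw [← hsT, ← hsimp]; exact hcard
  have hfin : Nat.card N ≤ Nat.card L := by
    rw [hcN, hcL]
    refine Nat.mul_le_mul hsN (Nat.mul_le_mul hTS ?_)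
    omega
  exact eq_top_of_card_eq L (le_antisymm (card_le_card_group L) hfin)

end H18.SepTop
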