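import Mathlib
import Cfsg.Agent.Lib.Lead.CITA6
import Cfsg.Agent.Lib.H29.OddFinal
import Cfsg.Agent.Lib.H1.Cores
import Cfsg.Agent.Lib.H28.CITSep
import Cfsg.Agent.Lib.H18.SepTop

/-!
Structure of non-solvable `Sep` groups: `N = G / O₂(G)` is `Sep` and has a normal simple non-abelian
subgroup `L` with trivial centralizer.
-/
set_option autoImplicit false

namespace H18.SepBase

open Subgroup Lead.CIT Cfsg

universe u

/-- in a `Sep` group a normal subgroup of odd order is trivial, or the group is solvable -/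
theorem odd_normal_bot {N : Type u} [Group N] [Finite N] (hS : Sep N) (hns : ¬ Group.IsSolvable N)
    (K : Subgroup N) (hK : K.Normal) (hodd : Odd (Nat.card K)) : K = ⊥ := by
  classical
  haveI : Fact (Nat.Prime 2) := ⟨Nat.prime_two⟩
  by_contra hK1
  apply hns
  by_cases h2 : 2 ∣ Nat.card N
  swap
  · exact H29.OddFinal.odd_order (Nat.odd_iff.2 (by omega))
  obtain ⟨t, ht⟩ := exists_prime_orderOf_dvd_card' (G := N) 2 h2
  obtain ⟨k, hk, hk1⟩ : ∃ k ∈ K, k ≠ 1 := by
    by_contra hc; push Not at hc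
    exact hK1 ((Subgroup.eq_bot_iff_forall _).2 hc)
  have hko : Odd (orderOf k) := by
    have h5 : orderOf k ∣ Nat.card K := by
      rw [← Subgroup.orderOf_mk _ hk]; exact orderOf_dvd_natCard _
    exact Odd.of_dvd_nat hodd h5
  set C : Subgroup N := centralizer (K : Set N) with hC
  haveI hCn : C.Normal := inferInstance
  have hCodd : Odd (Nat.card C) := by
    by_contra hc
    have hc2 : 2 ∣ Nat.card C := by
      rcases Nat.even_or_odd (Nat.card C) with h | h
      · exact h.two_dvd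
      · exact absurd h hc
    obtain ⟨s, hs⟩ := exists_prime_orderOf_dvd_card' (G := C) 2 hc2
    have h1 := hS k (s : N) (by rw [Subgroup.orderOf_coe]; exact hs) hko
      ((mem_centralizer_iff.1 s.2) k hk)
    exact hk1 h1
  have hinvK : ∀ s : N, orderOf s = 2 → ∀ x ∈ K, s * x * s⁻¹ = x⁻¹ := fun s hs =>
    Lead.CITA.inverts hS hodd hs
  let f : N →* N ⧸ C := QuotientGroup.mk' C
  have hf : Function.Surjective f := QuotientGroup.mk'_surjective C
  have hker : f.ker = C := QuotientGroup.ker_mk' C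
  have hcen : ∀ y : N, f (t * y * t⁻¹) = f y := by
    intro y
    have h1 : orderOf (y⁻¹ * t * y) = 2 := by
      have : y⁻¹ * t * y = MulAut.conj y⁻¹ t := by simp [MulAut.conj_apply]
      rw [this, MulEquiv.orderOf_eq]; exact ht
    have h2 : (y⁻¹ * t * y) * t⁻¹ ∈ C := by
      rw [hC, mem_centralizer_iff]
      intro x hx
      have h3 := hinvK _ ht _ (K.inv_mem hx)
      rw [inv_inv] at h3
      -- `t⁻¹ x t = x⁻¹`
      have h4 : t⁻¹ * x * t = x⁻¹ := by
        calc t⁻¹ * x * t = t⁻¹ * (t * x⁻¹ * t⁻¹) * t := by rw [h3]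
          _ = x⁻¹ := by group
      have h5 := hinvK _ h1 _ (K.inv_mem hx)
      rw [inv_inv] at h5
      have h6 : (y⁻¹ * t * y) * (t⁻¹ * x * t) = x * (y⁻¹ * t * y) := by
        rw [h4]
        calc (y⁻¹ * t * y) * x⁻¹ = ((y⁻¹ * t * y) * x⁻¹ * (y⁻¹ * t * y)⁻¹) * (y⁻¹ * t * y) := by group
          _ = x * (y⁻¹ * t * y) := by rw [h5]
      calc x * (y⁻¹ * t * y * t⁻¹) = (x * (y⁻¹ * t * y)) * t⁻¹ := by group
        _ = ((y⁻¹ * t * y) * (t⁻¹ * x * t)) * t⁻¹ := by rw [h6]
        _ = y⁻¹ * t * y * t⁻¹ * x := by group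
    have h3 : f ((y⁻¹ * t * y) * t⁻¹) = 1 := by
      rw [← MonoidHom.mem_ker, hker]; exact h2
    have h4 : t * y * t⁻¹ = y * ((y⁻¹ * t * y) * t⁻¹) := by group
    rw [h4, map_mul, h3, mul_one]
  -- elements of odd order are in `C`
  have hoddC : ∀ x : N, Odd (orderOf x) → x ∈ C := by
    intro x hx
    let X : Subgroup N := (zpowers (f x)).comap f
    have hCX : C ≤ X := by
      intro c hc
      have : f c = 1 := by rw [← MonoidHom.mem_ker, hker]; exact hc
      show f c ∈ zpowers (f x)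
      rw [this]; exact one_mem _
    have hxX : x ∈ X := mem_zpowers (f x)
    have hXodd : Odd (Nat.card X) := by
      have h1 : Nat.card X = Nat.card (zpowers (f x)) * Nat.card f.ker :=
        Lead.CITQ.card_comap f hf _
      rw [h1, hker, Nat.card_zpowers]
      exact (Odd.of_dvd_nat hx (orderOf_map_dvd f x)).mul hCodd
    have htX : t ∈ normalizer (X : Set N) := by
      rw [mem_normalizer_iff]
      intro y
      show f y ∈ zpowers (f x) ↔ f (t * y * t⁻¹) ∈ zpowers (f x)
      rw [hcen]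
    let M : Subgroup N := normalizer (X : Set N)
    have hSM : Sep M := H28.CITSep.sep_subgroup hS M
    haveI : (X.subgroupOf M).Normal := Subgroup.normal_in_normalizer
    have hXM : Odd (Nat.card (X.subgroupOf M)) := by
      rw [H28.RelSyl.card_subgroupOf (le_normalizer)]; exact hXodd
    have h1 := Lead.CITA.inverts hSM hXM (t := ⟨t, htX⟩) (by rw [Subgroup.orderOf_mk]; exact ht)
      ⟨x, le_normalizer hxX⟩ (by rw [mem_subgroupOf]; exact hxX)
    have h2 : t * x * t⁻¹ = x⁻¹ := congrArg Subtype.val h1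
    have h3 : f x = (f x)⁻¹ := by
      calc f x = f (t * x * t⁻¹) := (hcen x).symm
        _ = (f x)⁻¹ := by rw [h2, map_inv]
    have h4 : f x ^ 2 = 1 := by
      rw [pow_two]; nth_rw 2 [h3]; exact mul_inv_cancel _
    have h5 : orderOf (f x) ∣ 2 := orderOf_dvd_of_pow_eq_one h4
    have h6 : Odd (orderOf (f x)) := Odd.of_dvd_nat hx (orderOf_map_dvd f x)
    have h7 : orderOf (f x) = 1 := by
      rcases (Nat.dvd_prime Nat.prime_two).1 h5 with h | h
      · exact h
      · rw [h] at h6; exact absurd h6 (by decide)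
    rw [← hker, MonoidHom.mem_ker]
    exact orderOf_eq_one_iff.1 h7
  -- `N / C` is a `2`-group
  have h2Q : IsPGroup 2 (N ⧸ C) := by
    rw [IsPGroup.iff_card]
    refine ⟨_, Nat.eq_prime_pow_of_unique_prime_dvd (Nat.card_pos).ne' ?_⟩
    intro p hp hpd
    by_contra hp2
    haveI : Fact p.Prime := ⟨hp⟩
    obtain ⟨xb, hxb⟩ := exists_prime_orderOf_dvd_card' (G := N ⧸ C) p hpd
    obtain ⟨y, hy⟩ := hf xb
    obtain ⟨z, hz, hzo⟩ := Lead.CITA.lift_odd f (x := xb) (by rw [hxb]; exact hp.odd_of_ne_two hp2) hy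
    have h1 := hoddC z hzo
    rw [← hker, MonoidHom.mem_ker, hz] at h1
    rw [h1, orderOf_one] at hxb
    exact hp.one_lt.ne hxb
  haveI := h2Q.isNilpotent
  haveI hQs : Group.IsSolvable (N ⧸ C) := inferInstance
  haveI hCs : Group.IsSolvable C := H29.OddFinal.odd_order hCodd
  exact solvable_of_ker_le_range C.subtype f (by rw [hker, range_subtype])

/-- a non-trivial group of even order which is not a `2`-group has an element of odd prime order -/
theorem exists_odd {L : Type u} [Group L] [Finite L] (h : ¬ IsPGroup 2 L) : ∃ x : L, x ≠ 1 ∧ Odd (orderOf x) := by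
  classical
  by_contra hc
  push Not at hc
  apply h
  rw [IsPGroup.iff_card]
  refine ⟨_, Nat.eq_prime_pow_of_unique_prime_dvd (Nat.card_pos).ne' ?_⟩
  intro p hp hpd
  by_contra hp2
  haveI : Fact p.Prime := ⟨hp⟩
  obtain ⟨x, hx⟩ := exists_prime_orderOf_dvd_card' (G := L) p hpd
  refine hc x ?_ (by rw [hx]; exact hp.odd_of_ne_two hp2)
  rintro rfl
  rw [orderOf_one] at hx
  exact hp.one_lt.ne hx

theorem not_two_of_simple {L : Type u} [Group L] [Finite L] [IsSimpleGroup L]
    (hna : ∃ a b : L, a * b ≠ b * a) : ¬ IsPGroup 2 L := by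
  haveI : Fact (Nat.Prime 2) := ⟨Nat.prime_two⟩
  intro h
  haveI := h.isNilpotent
  obtain ⟨a, b, hab⟩ := hna
  exact hab (IsSimpleGroup.comm_iff_isSolvable.2 inferInstance a b)

/-- the structure of a non-solvable `Sep` group -/
theorem base {G : Type u} [Group G] [Finite G] (hS : Sep G) (hns : ¬ Group.IsSolvable G) :
    Sep (G ⧸ pCore 2 G) ∧ ¬ Group.IsSolvable (G ⧸ pCore 2 G) ∧
      ∃ L : Subgroup (G ⧸ pCore 2 G), L.Normal ∧ IsSimpleGroup L ∧ 2 ∣ Nat.card L ∧
        (∃ a b : L, a * b ≠ b * a) ∧ centralizer (L : Set (G ⧸ pCore 2 G)) = ⊥ := by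
  classical
  haveI : Fact (Nat.Prime 2) := ⟨Nat.prime_two⟩
  have hSN : Sep (G ⧸ pCore 2 G) := H28.CITSep.sep_quotient hS _ (H1.Cores.isPGroup_pCore 2)
  have hnsN : ¬ Group.IsSolvable (G ⧸ pCore 2 G) := by
    intro h
    apply hns
    haveI := (H1.Cores.isPGroup_pCore (G := G) 2).isNilpotent
    haveI : Group.IsSolvable (pCore 2 G) := inferInstance
    exact solvable_of_ker_le_range (pCore 2 G).subtype (QuotientGroup.mk' (pCore 2 G))
      (by rw [QuotientGroup.ker_mk', range_subtype])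
  haveI : Nontrivial (G ⧸ pCore 2 G) := by
    by_contra h
    rw [not_nontrivial_iff_subsingleton] at h
    exact hnsN inferInstance
  obtain ⟨L, hLn, hLs, hL2, hna⟩ := Lead.CITA.exists_simple_normal hSN
    (fun K hK h2 => by
      have h1 := H1.Cores.le_pCore hK h2
      rw [H1.Cores.pCore_quotient_pCore] at h1
      exact le_bot_iff.1 h1)
    (fun K hK ho => odd_normal_bot hSN hnsN K hK ho)
  refine ⟨hSN, hnsN, L, hLn, hLs, hL2, hna, ?_⟩
  haveI := hLs
  haveI := hLn
  obtain ⟨t, ht⟩ := exists_prime_orderOf_dvd_card' (G := L) 2 hL2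
  obtain ⟨y, hy1, hyo⟩ := exists_odd (not_two_of_simple hna)
  have hyo' : Odd (orderOf (y : G ⧸ pCore 2 G)) := by rw [Subgroup.orderOf_coe]; exact hyo
  have ht' : orderOf (t : G ⧸ pCore 2 G) = 2 := by rw [Subgroup.orderOf_coe]; exact ht
  have h2C : ¬ 2 ∣ Nat.card (centralizer (L : Set (G ⧸ pCore 2 G))) := by
    intro h
    obtain ⟨s, hs⟩ := exists_prime_orderOf_dvd_card' (G := centralizer (L : Set (G ⧸ pCore 2 G))) 2 h
    have h1 := hSN (y : G ⧸ pCore 2 G) (s : G ⧸ pCore 2 G) (by rw [Subgroup.orderOf_coe]; exact hs) hyo'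
      ((mem_centralizer_iff.1 s.2) _ y.2)
    exact hy1 (Subtype.ext h1)
  apply odd_normal_bot hSN hnsN _ inferInstance
  exact Nat.odd_iff.2 (by omega)

end H18.SepBase
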