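import Mathlib
import Cfsg.Agent.Lib.H18.SepBase
import Cfsg.Agent.Lib.H36.CITfin
import Cfsg.Agent.Lib.H36.SepOver2
import Cfsg.Agent.Lib.H98.DicksonIdx

/-!
`G / O₂(G)` for a non-solvable `Sep` group `G`.
-/
set_option autoImplicit false

namespace H18.SepCases

open Subgroup Lead.CIT Cfsg

universe u

theorem quot_cases {G : Type u} [Group G] [Finite G] (hS : Sep G) (hns : ¬ Group.IsSolvable G) :
    (∃ (F : Type) (_ : Field F) (_ : Fintype F) (n : ℕ), 2 ≤ n ∧ Fintype.card F = 2 ^ n ∧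
      Nonempty (G ⧸ pCore 2 G ≃* Matrix.ProjectiveSpecialLinearGroup (Fin 2) F)) ∨
    (∃ (F : Type) (_ : Field F) (_ : Fintype F) (m : ℕ), 1 ≤ m ∧ Fintype.card F = 2 ^ (2 * m + 1) ∧
      Nonempty (G ⧸ pCore 2 G ≃* Cfsg.Sz F m)) ∨
    (∃ (F : Type) (_ : Field F) (_ : Fintype F) (k : ℕ), 7 ≤ Fintype.card F ∧ (Fintype.card F).Prime ∧
      (Fintype.card F = 2 ^ k + 1 ∨ Fintype.card F + 1 = 2 ^ k) ∧
      Nonempty (G ⧸ pCore 2 G ≃* Matrix.ProjectiveSpecialLinearGroup (Fin 2) F)) ∨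
    (∃ (F : Type) (_ : Field F) (_ : Fintype F) (L : Subgroup (G ⧸ pCore 2 G)), Fintype.card F = 9 ∧
      L.Normal ∧ (L = ⊤ ∨ L.index = 2) ∧ Nonempty (L ≃* Matrix.ProjectiveSpecialLinearGroup (Fin 2) F)) ∨
    (∃ (F : Type) (_ : Field F) (_ : Fintype F), Fintype.card F = 4 ∧
      Nonempty (G ⧸ pCore 2 G ≃* Matrix.ProjectiveSpecialLinearGroup (Fin 3) F)) := by
  classical
  obtain ⟨hSN, hnsN, L, hLn, hLs, hL2, hna, hC⟩ := H18.SepBase.base hS hns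
  haveI := hLn
  haveI := hLs
  have hSL : Sep L := H28.CITSep.sep_subgroup hSN L
  have htop : L = ⊤ → Nonempty (G ⧸ pCore 2 G ≃* L) := fun h => by
    subst h
    exact ⟨Subgroup.topEquiv.symm⟩
  rcases H36.CITfin.classify hna hSL with ⟨hTI, F, i1, i2, n, hn, hF, ⟨e⟩⟩ | ⟨hTI, -, F, i1, i2, m, hm, hF, ⟨e⟩⟩ |
    ⟨hTI, F, i1, i2, hF, ⟨e⟩⟩ | ⟨hTI, F, i1, i2, hF, ⟨e⟩⟩
  · obtain ⟨e'⟩ := htop (H18.SepTop.ti_top hSN L hna hL2 hTI)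
    exact Or.inl ⟨F, i1, i2, n, hn, hF, ⟨e'.trans e⟩⟩
  · obtain ⟨e'⟩ := htop (H18.SepTop.ti_top hSN L hna hL2 hTI)
    exact Or.inr (Or.inl ⟨F, i1, i2, m, hm, hF, ⟨e'.trans e⟩⟩)
  · rcases hF with h9 | ⟨h7, hp, k, hk⟩
    · refine Or.inr (Or.inr (Or.inr (Or.inl ⟨F, i1, i2, L, h9, hLn, ?_, ⟨e⟩⟩)))
      exact H36.SepOver.index_of_nine hSN hC e h9
    · obtain ⟨e'⟩ := htop (H36.SepOver.top_of_prime hSN hC e (hp.odd_of_ne_two (by omega)) (by omega) hp)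
      exact Or.inr (Or.inr (Or.inl ⟨F, i1, i2, k, h7, hp, hk, ⟨e'.trans e⟩⟩))
  · obtain ⟨e'⟩ := htop (H36.SepOver.top_of_psl3 hSN hC e hF)
    exact Or.inr (Or.inr (Or.inr (Or.inr ⟨F, i1, i2, hF, ⟨e'.trans e⟩⟩)))

end H18.SepCases
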