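import Mathlib
import Cfsg.Agent.Lib.H18.SepCases
import Cfsg.Agent.Lib.H18.PGNum
import Cfsg.Agent.Lib.H63.SolvablePrimes

/-!
Prime graph: basic lemmas.
-/
set_option autoImplicit false

namespace H18.PGraph

open Subgroup Lead.CIT Cfsg

universe u

/-- a group with no elements of order `2 s`, `s` an odd prime, is `Sep` -/
theorem sep_of_graph {G : Type u} [Group G] [Finite G]
    (h : ∀ s : ℕ, s.Prime → s ≠ 2 → ¬ ∃ y : G, orderOf y = 2 * s) : Sep G := by
  intro x t ht hx hxt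
  by_contra hx1
  obtain ⟨s, hs, hsd⟩ := Nat.exists_prime_and_dvd (fun h1 => hx1 (orderOf_eq_one_iff.1 h1))
  have hs2 : s ≠ 2 := by
    rintro rfl
    exact (Nat.not_even_iff_odd.2 hx) (even_iff_two_dvd.2 hsd)
  apply h s hs hs2
  have hy : orderOf (x ^ (orderOf x / s)) = s := orderOf_pow_orderOf_div (orderOf_pos x).ne' hsd
  refine ⟨t * x ^ (orderOf x / s), ?_⟩
  have hc : Commute t (x ^ (orderOf x / s)) := (show Commute t x from hxt.symm).pow_right _
  rw [hc.orderOf_mul_eq_mul_orderOf_of_coprime, ht, hy]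
  rw [ht, hy]
  exact (Nat.coprime_primes Nat.prime_two hs).2 (Ne.symm hs2)

/-- odd prime divisors of `G` and `G / O₂(G)` agree -/
theorem dvd_card_quot {G : Type u} [Group G] [Finite G] {r : ℕ} (hr : r.Prime) (h2 : r ≠ 2) :
    r ∣ Nat.card (G ⧸ pCore 2 G) ↔ r ∣ Nat.card G := by
  haveI : Fact (Nat.Prime 2) := ⟨Nat.prime_two⟩
  obtain ⟨k, hk⟩ := IsPGroup.iff_card.1 (H1.Cores.isPGroup_pCore (G := G) 2)
  rw [card_eq_card_quotient_mul_card_subgroup (pCore 2 G), hk, hr.dvd_mul]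
  constructor
  · exact Or.inl
  · rintro (h | h)
    · exact h
    · exact absurd ((Nat.prime_dvd_prime_iff_eq hr Nat.prime_two).1 (hr.dvd_of_dvd_pow h)) h2

theorem card_psl2 (F : Type*) [Field F] [Fintype F] :
    Nat.gcd 2 (Fintype.card F - 1) * Nat.card (Matrix.ProjectiveSpecialLinearGroup (Fin 2) F) =
      (Fintype.card F + 1) * (Fintype.card F * (Fintype.card F - 1)) := by
  rw [← Nat.card_eq_fintype_card]; exact H98.DicksonPGL.card_psl_eq F

/-- odd primes dividing `|PSL₂(q)|` -/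
theorem dvd_psl2 {F : Type*} [Field F] [Fintype F] {r : ℕ} (hr : r.Prime) (h2 : r ≠ 2) :
    r ∣ Nat.card (Matrix.ProjectiveSpecialLinearGroup (Fin 2) F) ↔
      r ∣ (Fintype.card F + 1) * (Fintype.card F * (Fintype.card F - 1)) := by
  rw [← card_psl2, hr.dvd_mul]
  constructor
  · exact Or.inr
  · rintro (h | h)
    · exact absurd ((Nat.prime_dvd_prime_iff_eq hr Nat.prime_two).1 (h.trans (Nat.gcd_dvd_left _ _))) h2
    · exact h

end H18.PGraph
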